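import Cfsg.Agent.HZ.Gen.B
import Cfsg.Agent.TO.X11.Fr

/-!
# HZ, big primes: finite reductive groups (helper4)

`big_GF` : `Big (GF F G) r (nb D)` for a prime `r ≠ p` which does not divide the order of the Weyl group; the bound `nb D` depends on the
root system only.
-/

set_option autoImplicit false
set_option linter.unusedSectionVars false

namespace Cfsg.Agent.HZ.Gen

open Cfsg Subgroup Cfsg.Agent.DL Cfsg.Agent.Nodes.BNOf

variable {p : ℕ} [Fact p.Prime] {k : Type} [Field k] [CharP k p] [IsAlgClosed k] {Y : Type} [Group Y] {N : Type}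
  [Fintype N] [DecidableEq N] {ρ : Y →* GL N k} {F : MulAut Y} {G : Subgroup Y} (D : Datum p ρ F G) {r : ℕ} [Fact r.Prime]

/-- the bound -/
noncomputable def nb : ℕ := Nat.card D.W * 2 ^ {a | D.Rt a}.ncard

theorem rp_conj {w : D.W} {m m' t : Y} (h : D.Rp w m) (h' : D.Rp w m') (ht : t ∈ D.T) : m * t * m⁻¹ = m' * t * m'⁻¹ := by
  obtain ⟨c, rfl⟩ := (D.mem_T t).1 ht
  rw [D.conj_τ h, D.conj_τ h']

/-- **finite reductive groups** -/
theorem big_GF (hr : r ≠ p) (hW : ¬ r ∣ Nat.card D.W) : Big (GF F G) r (nb D) := by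
  classical
  have := D.amb.finite_GF G
  have h0 := fun R : Sylow r (GF F G) => TO.X11.toral hr hW R.2 ((GF F G).subtype.comp (R : Subgroup (GF F G)).subtype) fun u => u.1.2
  refine ⟨fun R x hx z hz => ?_, fun R => ?_, fun R => ?_⟩ <;> obtain ⟨y, hy, -, -, hT⟩ := h0 R
  · have h1 := D.T_comm (hT ⟨x, hx⟩) (hT ⟨z, hz⟩)
    refine Subtype.ext ((MulAut.conj y⁻¹).injective ?_)
    simpa [mul_assoc] using h1
  · rw [← Set.ncard_image_of_injective _ SetLike.coe_injective]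
    refine (Set.ncard_le_ncard (t := (fun z : D.W × Finset (D.I → ℤ) => {x : GF F G | x ∈ R ∧ (∀ m, D.Rp z.1 m → Commute m (y⁻¹ * x * y)) ∧
      ∀ a ∈ z.2, D.χ a (y⁻¹ * x * y) = 1}) '' ↑((Set.finite_univ (α := D.W)).toFinset ×ˢ D.finite_roots.toFinset.powerset)) ?_).trans ?_
    · rintro _ ⟨_, ⟨h, rfl⟩, rfl⟩
      let Z : Set Y := (fun x : GF F G => y⁻¹ * x * y) '' (centralizer {h} ⊓ (R : Subgroup (GF F G)) : Subgroup _)
      have hZ : Z ⊆ D.T := by
        rintro _ ⟨x, hx, rfl⟩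
        exact hT ⟨x, hx.2⟩
      obtain ⟨c, hc, m, hm, h1, h2⟩ := D.exists_cen_form hZ (mul_mem (mul_mem (inv_mem hy) h.2.1) hy) (by
        rintro _ ⟨x, hx, rfl⟩
        simpa [mul_assoc] using (((mem_cen.1 hx.1).map (GF F G).subtype).map (MulAut.conj y⁻¹)).eq)
      refine ⟨(D.pr m, D.finite_roots.toFinset.filter (· ∈ D.Sz Z)), by simpa using fun _ h _ => h, Set.ext fun x => ⟨fun ⟨h3, h4, h5⟩ => ⟨?_, h3⟩,
        fun hx => ⟨hx.2, fun m' hm' => ?_, fun a ha => (Finset.mem_filter.1 ha).2.2 _ ⟨x, hx, rfl⟩⟩⟩⟩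
      · have h6 : Commute c (y⁻¹ * x * y) := mem_centralizer_singleton_iff.1 (D.cen_le_centralizer (Set.singleton_subset_iff.2 (hT ⟨x, h3⟩))
          (D.S_le_cen _ (RGD.Sup_mono (S := D.Sz Z) (S' := D.Sz {y⁻¹ * x * y}) (fun a ha => ⟨ha.1, fun z hz => Set.mem_singleton_iff.1 hz ▸ h5 a (Finset.mem_filter.2 ⟨D.finite_roots.mem_toFinset.2 ha.1, ha⟩)⟩) hc)))
        have h7 := (h2 ▸ h6.mul_left (h4 m (D.rp_pr hm))).map (MulAut.conj y)
        exact mem_centralizer_singleton_iff.2 (Subtype.ext (by simpa [mul_assoc] using h7.symm.eq))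
      · refine mul_inv_eq_iff_eq_mul.1 ((rp_conj D hm' (D.rp_pr hm) (hT ⟨x, hx.2⟩)).trans ?_)
        exact mul_inv_eq_iff_eq_mul.2 (h1 _ ⟨x, hx, rfl⟩).symm
    · refine (Set.ncard_image_le).trans ?_
      rw [Set.ncard_coe_finset, Finset.card_product, Finset.card_powerset, ← Set.ncard_eq_toFinset_card,
        ← Set.ncard_eq_toFinset_card _ D.finite_roots, Set.ncard_univ]
      rfl
  · refine le_trans ?_ (Nat.le_mul_of_pos_right _ (Nat.two_pow_pos _))
    rw [relIndex, ← Sylow.coe_coe, ← normalizerMonoidHom_ker, index_ker]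
    have h1 : ∀ γ : (R : Subgroup (GF F G)).normalizerMonoidHom.range, ∃ w m, D.Rp w m ∧
        ∀ x : R, m * (y⁻¹ * x * y) * m⁻¹ = y⁻¹ * γ.1 x * y := by
      rintro ⟨_, g, rfl⟩
      obtain ⟨c, -, m, hm, h2, -⟩ := D.exists_conj_form hT (fun x => hT ((R : Subgroup (GF F G)).normalizerMonoidHom g x))
        (mul_mem (mul_mem (inv_mem hy) g.1.2.1) hy) fun x => by
          show _ * (y⁻¹ * x.1.1 * y) = y⁻¹ * (g.1.1 * x.1.1 * g.1.1⁻¹) * y * _
          simp [mul_assoc]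
      exact ⟨_, m, D.rp_pr hm, fun x => mul_inv_eq_iff_eq_mul.2 (h2 x)⟩
    choose w m h2 h3 using h1
    refine Nat.card_le_card_of_injective w fun γ γ' e => Subtype.ext (MulEquiv.ext fun x => Subtype.ext (Subtype.ext ?_))
    have h4 := (h3 γ x).symm.trans ((rp_conj D (h2 γ) (e ▸ h2 γ') (hT x)).trans (h3 γ' x))
    exact mul_left_cancel (mul_right_cancel h4)

end Cfsg.Agent.HZ.Gen
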