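import Cfsg.Agent.HZ.Gen.Main

/-!
# HZ, big primes: characters which are induced from the generic elements (helper4)

* `ig r K ι η` : the induction of `η` times the indicator function of the generic elements; `inner_ig` : Frobenius reciprocity;
* `Big.four` : an irreducible character which agrees with `ig η` on the generic elements is determined by `η`.
-/

set_option autoImplicit false
set_option linter.unusedSectionVars false

namespace Cfsg.Agent.HZ.Gen

open Cfsg Subgroup Cfsg.Agent.OddOrderCharacters.VChar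
open scoped ComplexConjugate

variable {H : Type*} [Group H] [Fintype H] {r n B : ℕ} [hr : Fact r.Prime] {K P : Subgroup H} {χ ψ : H → ℂ}
  {L : Type*} [Group L] [Fintype L] {ι : L →* H} {η : L → ℂ}

open Classical in
/-- induction from the generic elements -/
noncomputable def ig (r : ℕ) (K : Subgroup H) (ι : L →* H) (η : L → ℂ) (h : H) : ℂ :=
  (Nat.card L : ℂ)⁻¹ * ∑ x : H, ∑ g with Gn r K (ι g), if ι g = x * h * x⁻¹ then η g else 0

theorem ig_conj (h x : H) : ig r K ι η (x * h * x⁻¹) = ig r K ι η h := by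
  unfold ig
  exact congrArg _ (Fintype.sum_equiv (Equiv.mulRight x) _ _ fun y => by
    rw [show y * (x * h * x⁻¹) * y⁻¹ = Equiv.mulRight x y * h * (Equiv.mulRight x y)⁻¹ by simp [mul_assoc]])

theorem ig_zero {h : H} (hh : ∀ x, ¬ Gn r K (x * h * x⁻¹)) : ig r K ι η h = 0 := by
  classical
  rw [ig, Finset.sum_eq_zero, mul_zero]
  exact fun x _ => Finset.sum_eq_zero fun g hg => if_neg fun e : ι g = x * h * x⁻¹ => hh x (e ▸ (Finset.mem_filter.1 hg).2)

open Classical in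
theorem inner_ig (hψ : IsClassFunction H ψ) :
    classInner (ig r K ι η) ψ = (Nat.card L : ℂ)⁻¹ * ∑ g with Gn r K (ι g), η g * conj (ψ (ι g)) := by
  have h1 : ∀ g x, ∑ h, (if ι g = x * h * x⁻¹ then η g else 0) * conj (ψ h) = η g * conj (ψ (ι g)) := fun g x => by
    rw [Finset.sum_eq_single (x⁻¹ * ι g * x), if_pos (by group), ← hψ _ x]
    · simp [mul_assoc]
    · exact fun h _ e => by rw [if_neg fun e' => e (by rw [e']; group), zero_mul]
    · simp
  simp only [classInner, ig, mul_assoc, ← Finset.mul_sum, Finset.sum_mul]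
  rw [Finset.sum_comm, Finset.sum_congr rfl fun x _ => Finset.sum_comm.trans (Finset.sum_congr rfl fun g _ => by
    simpa only [mul_assoc] using h1 g x), Finset.sum_const, Finset.card_univ, ← Nat.card_eq_fintype_card, nsmul_eq_mul, mul_left_comm,
    inv_mul_cancel_left₀ (Nat.cast_ne_zero.2 Nat.card_pos.ne')]

theorem cs_le {α : Type*} (s : Finset α) (f f' : α → ℂ) :
    ‖∑ x ∈ s, f x * conj (f' x)‖ ^ 2 ≤ (∑ x ∈ s, ‖f x‖ ^ 2) * ∑ x ∈ s, ‖f' x‖ ^ 2 := by
  refine le_trans (pow_le_pow_left₀ (norm_nonneg _) ((norm_sum_le _ _).trans_eq ?_) 2) (Finset.sum_mul_sq_le_sq_mul_sq s _ _)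
  exact Finset.sum_congr rfl fun x _ => by rw [norm_mul, Complex.norm_conj]

/-- the part of an inner product on a subset -/
theorem part_le (s : Finset L) (f f' : L → ℂ) {a : ℝ} (h : ∑ x ∈ s, ‖f x‖ ^ 2 ≤ Nat.card L * a) :
    ‖(Nat.card L : ℂ)⁻¹ * ∑ x ∈ s, f x * conj (f' x)‖ ^ 2 ≤ a * (classInner f' f').re := by
  have h0 : (0 : ℝ) < Nat.card L := Nat.cast_pos.2 Nat.card_pos
  have h1 := (cs_le s f f').trans (mul_le_mul h ((Finset.sum_le_univ_sum_of_nonneg fun _ => sq_nonneg _).trans_eq (re_inner f'))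
    (Finset.sum_nonneg fun _ _ => sq_nonneg _) ((Finset.sum_nonneg fun _ _ => sq_nonneg _).trans h))
  rw [norm_mul, norm_inv, Complex.norm_natCast, mul_pow, inv_pow, inv_mul_le_iff₀ (pow_pos h0 2)]
  exact h1.trans_eq (by ring)

theorem inner_split (S : L → Prop) [DecidablePred S] (f f' : L → ℂ) : classInner f f' =
    (Nat.card L : ℂ)⁻¹ * ∑ x with S x, f x * conj (f' x) + (Nat.card L : ℂ)⁻¹ * ∑ x with ¬ S x, f x * conj (f' x) := by
  rw [← mul_add, Finset.sum_filter_add_sum_filter_not, classInner]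

theorem num_one {r n B N a : ℝ} (hn : 1 ≤ n) (hB : 1 ≤ B) (hr : 32 * (n * B) ^ 3 < r) (ha : 0 ≤ a) (h1 : N ≤ 2 * n * B)
    (h2 : r * (N - 1 + a) ^ 2 ≤ 2 * n ^ 2 * B * N) : N < 2 := by
  by_contra h8
  have h7 : 1 ≤ n * B := one_le_mul_of_one_le_of_one_le hn hB
  have h6 : n ^ 2 * B ≤ (n * B) ^ 2 := by rw [mul_pow]; exact mul_le_mul_of_nonneg_left (by nlinarith) (sq_nonneg _)
  have h0 : 0 < (n * B) ^ 3 := by positivity
  have h9 : r ≤ r * (N - 1 + a) ^ 2 := le_mul_of_one_le_right (by linarith) (one_le_pow₀ (by linarith))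
  have h10 : n ^ 2 * B * N ≤ (n * B) ^ 2 * (2 * n * B) := mul_le_mul h6 h1 (by linarith) (sq_nonneg _)
  linarith

theorem num_two {r n B a x : ℝ} (hn : 1 ≤ n) (hB : 1 ≤ B) (hr : 32 * (n * B) ^ 3 < r) (h1 : r * a ^ 2 ≤ 2 * n ^ 2 * B)
    (h2 : r * x ^ 2 ≤ 2 * n ^ 2 * B) : a * B < (1 / 2) ^ 2 ∧ x < 1 / 2 := by
  have h0 : 0 < (n * B) ^ 3 := by positivity
  have h3 : n ^ 2 * B ^ 3 ≤ (n * B) ^ 3 := by
    rw [mul_pow]
    exact mul_le_mul_of_nonneg_right (pow_le_pow_right₀ hn (by norm_num)) (by positivity)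
  have h4 : n ^ 2 * B ≤ n ^ 2 * B ^ 3 := mul_le_mul_of_nonneg_left (le_self_pow₀ hB three_ne_zero) (sq_nonneg _)
  have h5 := mul_le_mul_of_nonneg_right h1 (sq_nonneg B)
  exact ⟨lt_of_pow_lt_pow_left₀ 2 (by norm_num) (lt_of_mul_lt_mul_left (a := r) (by linarith) (by linarith)),
    lt_of_pow_lt_pow_left₀ 2 (by norm_num) (lt_of_mul_lt_mul_left (a := r) (by linarith) (by linarith))⟩

theorem int_eq {u v : ℤ} {z : ℂ} (h : ‖u - z‖ < 1 / 2) (h' : ‖v - z‖ < 1 / 2) : u = v := by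
  have h1 := (norm_sub_le_norm_sub_add_norm_sub (u : ℂ) z v).trans_lt (add_lt_add h ((norm_sub_rev _ _).trans_lt h'))
  rwa [← Int.cast_sub, Complex.norm_intCast, add_halves, ← Int.cast_abs, ← Int.cast_one, Int.cast_lt, Int.abs_lt_one_iff,
    sub_eq_zero] at h1

namespace Big

variable (hB : Big H r n) (hP : IsPGroup r P) (hι : Function.Injective ι) (hL : ι.range = centralizer P)
  (hη : ∀ a g, ι a ∈ P → η (a * g) = η g)
include hB hP hι hL hη

open Classical in
/-- the norm on the elements which are not generic -/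
theorem sum_ngen : r * ∑ g with ¬ Gn r (centralizer P) (ι g), ‖η g‖ ^ 2 ≤ n * ∑ g, ‖η g‖ ^ 2 := by
  obtain ⟨j, hj⟩ := exists_lift hι (hL ▸ hB.ab' hP)
  have h1 : (0 : ℝ) < Nat.card P := Nat.cast_pos.2 Nat.card_pos
  refine le_of_mul_le_mul_left ?_ h1
  calc (Nat.card P : ℝ) * (r * ∑ g with ¬ Gn r (centralizer P) (ι g), ‖η g‖ ^ 2)
      = r * ∑ g, ∑ a : P, if ¬ Gn r (centralizer P) (ι (j a * g)) then ‖η (j a * g)‖ ^ 2 else 0 := by
        rw [mul_left_comm, Finset.sum_comm, Finset.sum_filter, Nat.card_eq_fintype_card, ← nsmul_eq_mul (Fintype.card P),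
          ← Finset.card_univ, ← Finset.sum_const]
        exact congrArg _ (Finset.sum_congr rfl fun a _ => (Fintype.sum_equiv (Equiv.mulLeft (j a)) _ _ fun _ => rfl).symm)
    _ ≤ _ := by
        rw [Finset.mul_sum, Finset.mul_sum, Finset.mul_sum]
        refine Finset.sum_le_sum fun g _ => ?_
        simp only [map_mul, hj, fun a : P => hη (j a) g (hj a ▸ a.2)]
        rw [← Finset.sum_filter, Finset.sum_const, nsmul_eq_mul, ← mul_assoc, ← mul_assoc, mul_comm _ (n : ℝ)]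
        refine mul_le_mul_of_nonneg_right ?_ (sq_nonneg _)
        have h2 := hB.card_ngen hP (g := ι g) (hL ▸ ⟨g, rfl⟩)
        rw [Set.ncard_eq_toFinset_card', Set.toFinset_ofPred] at h2
        exact_mod_cast h2

/-- **Frobenius reciprocity up to a small error** -/
theorem inner_ig_le (hψ : Sm r B ψ) (hb : bd n B < r) :
    r * ‖classInner η (rs r P ψ ∘ ι) - classInner (ig r (centralizer P) ι η) ψ‖ ^ 2 ≤ 2 * n ^ 2 * B * (classInner η η).re := by
  classical
  have h0 : (0 : ℝ) < r := Nat.cast_pos.2 hr.out.pos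
  rw [inner_ig (gen_isClassFunction hψ.gen), inner_split fun g => Gn r (centralizer P) (ι g), Finset.sum_congr rfl fun g hg => by
    rw [Function.comp_apply, hB.rs_gn hP hψ hb (Finset.mem_filter.1 hg).2], add_sub_cancel_left, ← le_inv_mul_iff₀ h0]
  refine (part_le _ _ _ (a := (r : ℝ)⁻¹ * (n * (classInner η η).re)) ?_).trans ?_
  · rw [mul_left_comm, le_inv_mul_iff₀ h0, mul_left_comm (Nat.card L : ℝ), ← re_inner]
    exact hB.sum_ngen hP hι hL hη
  · have := classInner_self_re_nonneg η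
    exact (mul_le_mul_of_nonneg_left (hB.rs_nrm hP hψ hb hι hL) (by positivity)).trans_eq (by push_cast; ring)

/-- **(4)** -/
theorem four (hχ : Sm r B χ) (h1 : classInner χ χ = 1) (hb : bd n B < r) (hb' : 32 * (n * B) ^ 3 < r) (hg : IsGeneralizedCharacter L η)
    (h0 : η ≠ 0) (h2 : classInner η (rs r P χ ∘ ι) = classInner η η)
    (h3 : ∀ g, Gn r (centralizer P) (ι g) → χ (ι g) = ig r (centralizer P) ι η (ι g)) :
    classInner η η = 1 ∧ ∀ ψ, Sm r B ψ → classInner χ ψ = classInner η (rs r P ψ ∘ ι) := by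
  classical
  let S : H → Prop := fun h => ∃ x, Gn r (centralizer P) (x * h * x⁻¹)
  have h4 : ∀ ψ : H → ℂ, (Nat.card H : ℂ)⁻¹ * ∑ h with S h, χ h * conj (ψ h) = classInner (ig r (centralizer P) ι η) ψ := fun ψ => by
    rw [inner_split S, Finset.sum_eq_zero (s := Finset.univ.filter fun h => ¬ S h) fun h hh => by
      rw [ig_zero (not_exists.1 (Finset.mem_filter.1 hh).2), zero_mul], mul_zero, add_zero]
    refine congrArg _ (Finset.sum_congr rfl fun h hh => ?_)
    obtain ⟨x, hx⟩ := (Finset.mem_filter.1 hh).2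
    obtain ⟨g, e⟩ : x * h * x⁻¹ ∈ ι.range := hL ▸ hx.mem
    rw [← gen_isClassFunction hχ.gen h x, ← ig_conj h x, ← e, h3 g (e ▸ hx)]
  obtain ⟨N, hN⟩ := gen_norm hg
  have hN0 : 1 ≤ N := Nat.pos_of_ne_zero fun e => h0 (funext fun g => by
    have h5 := re_inner η
    rw [hN, e, Nat.cast_zero, Complex.zero_re, mul_zero, Finset.sum_eq_zero_iff_of_nonneg fun _ _ => sq_nonneg _] at h5
    simpa using h5 g (Finset.mem_univ g))
  have hB1 : (1 : ℝ) ≤ B := by simpa [h1] using hχ.nrm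
  have hN1 : (N : ℝ) ≤ 2 * n * B := by
    have h5 := part_le Finset.univ η (rs r P χ ∘ ι) (re_inner η).le
    have h6 := hB.rs_nrm hP hχ hb hι hL
    rw [← classInner, h2, hN, Complex.norm_natCast, Complex.natCast_re, sq] at h5
    exact_mod_cast (le_of_mul_le_mul_left h5 (Nat.cast_pos.2 hN0)).trans h6
  obtain ⟨a, ha, ha'⟩ : ∃ a : ℝ, ∑ h with ¬ S h, ‖χ h‖ ^ 2 = Nat.card H * a ∧ classInner (ig r (centralizer P) ι η) χ = 1 - a := by
    refine ⟨(Nat.card H : ℝ)⁻¹ * ∑ h with ¬ S h, ‖χ h‖ ^ 2, (mul_inv_cancel_left₀ (Nat.cast_ne_zero.2 Nat.card_pos.ne') _).symm, ?_⟩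
    rw [← h4, ← h1, inner_split S χ χ, eq_sub_iff_add_eq]
    simp [Complex.mul_conj, Complex.normSq_eq_norm_sq]
  have ha0 : 0 ≤ a := le_of_mul_le_mul_left (ha ▸ (mul_zero _).trans_le (Finset.sum_nonneg fun _ _ => sq_nonneg _))
    (Nat.cast_pos.2 (Nat.card_pos (α := H)))
  have h5 := hB.inner_ig_le hP hι hL hη hχ hb
  rw [h2, ha', hN, show (N : ℂ) - (1 - a) = ((N - 1 + a : ℝ) : ℂ) by push_cast; ring, Complex.norm_real, Real.norm_eq_abs, sq_abs,
    Complex.natCast_re] at h5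
  have hn1 : (1 : ℝ) ≤ n := by
    rcases Nat.eq_zero_or_pos n with e | e
    · have : (1 : ℝ) ≤ N := Nat.one_le_cast.2 hN0
      rw [e, Nat.cast_zero] at hN1
      linarith
    · exact Nat.one_le_cast.2 e
  have hr' : 32 * ((n : ℝ) * B) ^ 3 < r := by exact_mod_cast hb'
  obtain rfl : N = 1 := by
    have h8 : N < 2 := by exact_mod_cast num_one hn1 hB1 hr' ha0 hN1 h5
    omega
  refine ⟨hN.trans Nat.cast_one, fun ψ hψ => ?_⟩
  obtain ⟨u, hu⟩ := gen_inner hχ.gen hψ.gen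
  obtain ⟨v, hv⟩ := gen_inner hg (hB.rs_gen hP hψ hb hι hL)
  have h8 := hB.inner_ig_le hP hι hL hη hψ hb
  have h9 := (part_le _ χ ψ ha.le).trans (mul_le_mul_of_nonneg_left hψ.nrm ha0)
  rw [← sub_eq_of_eq_add' (inner_split S χ ψ), h4, hu] at h9
  rw [hv, hN, Complex.natCast_re, Nat.cast_one, mul_one] at h8
  rw [Nat.cast_one, sub_self, zero_add, mul_one] at h5
  obtain ⟨h10, h11⟩ := num_two hn1 hB1 hr' h5 h8
  rw [hu, hv, int_eq (lt_of_pow_lt_pow_left₀ 2 (by norm_num) (h9.trans_lt h10)) h11]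

end Big

end Cfsg.Agent.HZ.Gen
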