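import Cfsg.Agent.HZ.Gen.Main
import Cfsg.Agent.HZ.Gen.Geo
import Cfsg.Agent.RL.LP
import Cfsg.Agent.TO.X.Conn
import Cfsg.Agent.LV.One.Gal

/-!
# HZ, big primes: the multiplicities of the Deligne-Lusztig characters (helper4)

* `cen_eq`, `rg_cen` : the centraliser of an `r`-subgroup is connected and has a datum over `D`;
* `ures_loc` : the comparison of two restrictions at an element whose `r`-part has a small centraliser;
* `rst_rs`, `ip_rs` : `rs χ` has the same multiplicities as `χ` on the tori which contain `P`.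
-/

set_option autoImplicit false
set_option linter.unusedSectionVars false

namespace Cfsg.Agent.HZ.Gen

open Cfsg Subgroup Cfsg.Agent.DL Cfsg.Agent.DL.CF Cfsg.Agent.DL.Uni Cfsg.Agent.DL.Asm Cfsg.Agent.DL.PP Cfsg.Agent.RL
  Cfsg.Agent.Nodes.Reps Cfsg.Agent.Nodes.BNOf Cfsg.Agent.Characters.Core Cfsg.Agent.KZ.Lie Cfsg.Agent.Blocks.PPart

theorem cco_mono {Γ : Type*} [Group Γ] {A A' : Subgroup Γ} (h : A ≤ A') (s : Γ) : cco A s ≤ cco A' s := fun _ hx =>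
  mem_conn.2 fun B _ h2 => (mem_conn.1 hx (B ⊓ (A ⊓ centralizer {s})) inf_le_right (by
    rw [inf_relIndex_right]
    exact fun h0 => h2 (relIndex_eq_zero_of_le_right (inf_le_inf_right _ h) h0))).1

variable {p : ℕ} [Fact p.Prime] {k : Type} [Field k] [CharP k p] [IsAlgClosed k] {Y : Type} [Group Y] {N : Type}
  [Fintype N] [DecidableEq N] {ρ : Y →* GL N k} {F : MulAut Y} {G C M T V : Subgroup Y} {D : Datum p ρ F G} {X : Datum p ρ F C}
  {r B : ℕ} [hr : Fact r.Prime] {b v t : Y} {χ η : Y → ℂ}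

variable (D) in
/-- **connected centralisers** -/
theorem cen_eq (hW : ¬ r ∣ Nat.card D.W) {Z : Set Y} (hZ : Z ⊆ D.T) (hz : ∀ z ∈ Z, ∃ j, z ^ r ^ j = 1) :
    G ⊓ centralizer Z = D.cen Z :=
  le_antisymm (fun y hy => by
    obtain ⟨w, m, -, -, h⟩ := TO.X.Cn.exists_rep_pow D hZ hy.1 hy.2
    exact TO.X.Cn.ppr' D hr.out hZ hz hy.1 hy.2 hW ((h _).2 (by rw [pow_card_eq_one']; exact one_mem _)))
    (le_inf (D.cen_le_G Z) (D.cen_le_centralizer hZ))

theorem pow_of_mem {P : Subgroup (GF F G)} (hP : IsPGroup r P) : ∀ z ∈ (P.map (GF F G).subtype : Set Y), ∃ j, z ^ r ^ j = 1 := by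
  rintro _ ⟨a, ha, rfl⟩
  exact (hP ⟨a, ha⟩).imp fun j e => congrArg (fun x : P => (x.1 : Y)) e

variable (D) in
theorem exists_tor (hp : r ≠ p) (hW : ¬ r ∣ Nat.card D.W) {P : Subgroup (GF F G)} (hP : IsPGroup r P) :
    ∃ T ∈ tori D, ∀ a ∈ P, (a : Y) ∈ T := by
  obtain ⟨y, hy, w, hw, h⟩ := TO.X11.toral hp hW hP ((GF F G).subtype.comp P.subtype) fun u => u.1.2
  exact ⟨_, (Ov.conj hy ⟨w, hw⟩).T_mem, fun a ha => mem_cj.2 (h ⟨a, ha⟩)⟩

variable (D) in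
/-- **the centraliser of an `r`-subgroup has a datum** -/
theorem rg_cen (hp : r ≠ p) (hW : ¬ r ∣ Nat.card D.W) {P : Subgroup (GF F G)} (hP : IsPGroup r P) :
    Rg D (G ⊓ centralizer (P.map (GF F G).subtype : Set Y)) := by
  obtain ⟨T, hT, h⟩ := exists_tor D hp hW hP
  obtain ⟨y, hy, w, hw, rfl⟩ := exists_y hT
  have hZ : (P.map (GF F G).subtype : Set Y) ⊆ (D.conj hy ⟨w, hw⟩).T := by
    rintro _ ⟨a, ha, rfl⟩
    exact h a ha
  have e := cen_eq (D.conj hy ⟨w, hw⟩) hW hZ (pow_of_mem hP)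
  refine ⟨_, (Ov.conj hy ⟨w, hw⟩).trans (Ov.sub hZ ((stab_cen hZ).2 ?_) e.symm)⟩
  rw [← e]
  rintro x ⟨h1, h2⟩
  refine ⟨D.F_mem_G h1, ?_⟩
  rintro _ ⟨a, ha, rfl⟩
  have h3 := congrArg F (h2 _ ⟨a, ha, rfl⟩)
  rwa [map_mul, map_mul, show F ((GF F G).subtype a) = _ from a.2.2] at h3

theorem cco_eq (D : Datum p ρ F G) (ht : t ∈ GF F G) (hs : IsSs p t) (hC : C ≤ G) (h : cco G t ≤ C) : cco C t = cco G t := by
  refine le_antisymm (cco_mono hC t) (le_trans ?_ (cco_mono h t))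
  obtain ⟨T, hT, h0, h1⟩ := (Rg.top D).toral ht hs
  obtain ⟨X, -, rfl⟩ := (Rg.top D).frame hT h0
  have hZ := Set.singleton_subset_iff.2 h1
  rw [(X.sub hZ (stab_one h1 ht.2) (X.cco_eq_cen h1).symm).cco_eq_cen h1, sub_cen, Set.union_self, X.cco_eq_cen h1]

/-- **the comparison at a generic element** -/
theorem ures_loc {E : Type*} [NormedField E] [IsUltrametricDist E] (ψ : ℂ →+* E) (P : Pl r E) (hp : r ≠ p) (H : LP D G M V)
    (HC : Rg D C) (hM : M ≤ C) (hb : b ∈ GF F M) (h1 : IsUni r b) (hv : v ∈ GF F (cco M b)) (h2 : IsSs r v) (hc : cco G b ≤ C)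
    (hχ : IsCls (GF F G) χ) (hη : IsCls (GF F C) η) (e : ∀ c ∈ GF F (cco G b), IsSs r c → η (b * c) = χ (b * c)) :
    ures ψ F C (GF F C) ↑(V ⊓ C) η (b * v) = ures ψ F G (GF F G) V χ (b * v) := by
  have hs : IsSs p b := isSs_of_isUni hr.out hp h1
  have H' := H.cut HC HC.le hM
  rw [(H.cu hb hs).ures_eq H.set1 P hb h1 hv h2 hχ, (H'.cu hb hs).ures_eq H'.set1 P hb h1 hv h2 hη,
    cco_eq D (H.GF_le hb) hs HC.le hc, inf_assoc, inf_eq_right.2 hc]
  refine kop_congr fun c h3 => ?_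
  by_cases h4 : IsSs r c
  · rw [e c h3 h4]
  · have H2 := H.cco hb hs
    rw [ulam_sing H2.set1.toSet0 P (loc_one H2.V_le H2.rgC.lang) (inv_mem h3) (inv_mem hv) (by rwa [IsSs, orderOf_inv])
      (by rwa [IsSs, orderOf_inv]), zero_mul, zero_mul]

theorem rst_eq_ures (hp : r ≠ p) (ψ : ℂ →+* ℂ_[r]) (H : Pair D T V) (χ : Y → ℂ) (ht : t ∈ T ⊓ GF F G) :
    rst (GF F G) (R D) T χ t = ures ψ F G (GF F G) V χ t := by
  have := (sys' D).finT T
  have := Fintype.ofFinite ↥(T ⊓ GF F G)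
  rw [rst, ← ip_congr (fun _ _ => rfl) fun g hg => uind_eq_R hp ψ H (dl t) hg, (LP.of_pair (Ov.refl D) H).set1.adj' (pl_padic r),
    GF_tor (pair_T_le H), ip_dl_right _ ht, ← mul_assoc, mul_inv_cancel₀ ((sys' D).cardT_ne T), one_mul]

/-- the number of characters of a torus which meet a virtual character -/
theorem card_supp [Fintype (GF F G)] (hT : T ∈ tori D) (hχ : IsGeneralizedCharacter (GF F G) (res (GF F G) χ))
    (hB : (classInner (res (GF F G) χ) (res (GF F G) χ)).re ≤ B) (s : Finset (↥(T ⊓ GF F G) →* ℂˣ))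
    (hs : ∀ a ∈ s, ip (GF F G) χ (R D T (lin a)) ≠ 0) : s.card ≤ Nat.card D.W * B := by
  classical
  obtain ⟨f⟩ := nonempty_fr D
  obtain ⟨y, hy, w, hw, rfl⟩ := exists_y hT
  have := Fintype.ofFinite D.W
  have := (sys' D).finT (cj y D.T)
  have := finite_hom (cj y D.T ⊓ GF F G)
  have := Fintype.ofFinite (↥(cj y D.T ⊓ GF F G) →* ℂˣ)
  have h3 := (bessel f (res (GF F G) χ)).trans hB
  have h4 : (0 : ℝ) < Nat.card D.W := Nat.cast_pos.2 Nat.card_pos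
  rw [inv_mul_le_iff₀ h4, finsum_eq_sum_of_fintype] at h3
  have h5 := (Finset.single_le_sum (f := fun w => ∑ᶠ c : Lbl D, ‖classInner (res (GF F G) χ) (RW f w c)‖ ^ 2)
    (fun _ _ => finsum_nonneg fun _ => by positivity) (Finset.mem_univ w)).trans h3
  rw [← sum_lab f hy hw (fun ψ => ‖classInner (res (GF F G) χ) ψ‖ ^ 2) (by simp [classInner])] at h5
  have h6 := (Finset.card_nsmul_le_sum s _ (1 : ℝ) fun a ha => by
    have h7 := hs a ha
    have h8 := ip_gen_int hχ ((sys' D).gen _ hT _ (isLin_lin a))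
    rw [ip_eq_classInner] at h7 h8
    exact LV.One.one_le_normSq h8 h7).trans
    ((Finset.sum_le_sum_of_subset_of_nonneg (Finset.subset_univ s) fun _ _ _ => by positivity).trans h5)
  rw [nsmul_eq_mul, mul_one] at h6
  exact_mod_cast h6

theorem bd_rst [Fintype (GF F G)] (hT : T ∈ tori D) (hχ : IsGeneralizedCharacter (GF F G) (res (GF F G) χ))
    (hB : (classInner (res (GF F G) χ) (res (GF F G) χ)).re ≤ B) {A : Type*} [Group A] (j : A →* ↥(T ⊓ GF F G))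
    (ht : t ∈ T ⊓ GF F G) : Bd (Nat.card D.W * B) fun a => rst (GF F G) (R D) T χ (j a * t) := by
  classical
  have := (sys' D).finT T
  have := finite_hom (T ⊓ GF F G)
  have := Fintype.ofFinite (↥(T ⊓ GF F G) →* ℂˣ)
  refine bd_sum (Finset.univ.filter fun θ : ↥(T ⊓ GF F G) →* ℂˣ => ip (GF F G) χ (R D T (lin θ)) ≠ 0) (fun θ => θ.comp j)
    (fun θ => ip (GF F G) χ (R D T (lin θ)) * θ ⟨t, ht⟩) (card_supp hT hχ hB _ fun a ha => (Finset.mem_filter.1 ha).2) fun a => ?_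
  rw [fourier ((sys' D).comm T hT) (rst (GF F G) (R D) T χ) _ (mul_mem (j a).2 ht), Finset.sum_apply, Finset.sum_filter_of_ne]
  swap
  · exact fun θ _ h h0 => h (by rw [h0, zero_mul, zero_mul])
  refine Finset.sum_congr rfl fun θ _ => ?_
  rw [Pi.smul_apply, smul_eq_mul, ← (sys' D).ip_rst hT, lin_apply θ (mul_mem (j a).2 ht), mul_assoc, ← Units.val_mul,
    mul_comm (θ ⟨t, ht⟩), MonoidHom.comp_apply, ← map_mul]
  rfl

variable (D) in
/-- the roots which are not trivial on `Z` -/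
theorem exists_rootcuts {Q : Type*} [Group Q] [Finite Q] (e : Q →* Y) (he : Function.Injective e) (hT : ∀ x, e x ∈ D.T)
    (A : Subgroup Q) : ∃ s : Finset (Q →* ℂˣ), s.card ≤ {a | D.Rt a}.ncard ∧ (∀ α ∈ s, α.comp A.subtype ≠ 1) ∧
      ∀ z, (∀ α ∈ s, α z ≠ 1) → D.cen {e z} ≤ D.cen (A.map e) := by
  classical
  have h1 : ∀ a : D.I → ℤ, ∃ α : Q →* ℂˣ, a ∉ D.Sz (A.map e) → D.Rt a → α.comp A.subtype ≠ 1 ∧ ∀ z, D.χ a (e z) = 1 → α z = 1 := fun a => by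
    by_cases h : ∃ x ∈ A, D.χ a (e x) ≠ 1
    · obtain ⟨x, hx, h⟩ := h
      obtain ⟨α, h2, h3, -⟩ := exists_lin (fun x y => he (by rw [map_mul, map_mul, D.T_comm (hT x) (hT y)]))
        { carrier := {z | D.χ a (e z) = 1}
          one_mem' := by rw [Set.mem_ofPred_eq, map_one, D.χ_one]
          mul_mem' := fun {x y} hx hy => by rw [Set.mem_ofPred_eq, map_mul, D.χ_mul a (hT x) (hT y), hx, hy, one_mul]
          inv_mem' := fun {x} hx => by rw [Set.mem_ofPred_eq, map_inv, D.χ_inv a (hT x), hx, inv_one] } h h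
      exact ⟨α, fun _ _ => ⟨fun h4 => h3 (DFunLike.congr_fun h4 ⟨x, hx⟩), h2⟩⟩
    · refine ⟨1, fun h2 h3 => (h2 ⟨h3, ?_⟩).elim⟩
      rintro _ ⟨x, hx, rfl⟩
      exact not_not.1 fun h4 => h ⟨x, hx, h4⟩
  choose α hα using h1
  refine ⟨(D.finite_roots.toFinset.filter (· ∉ D.Sz (A.map e))).image α, Finset.card_image_le.trans ((Finset.card_filter_le _ _).trans
    (Set.ncard_eq_toFinset_card _ D.finite_roots).ge), fun β hβ => ?_, fun z hz => ?_⟩
  · obtain ⟨a, ha, rfl⟩ := Finset.mem_image.1 hβ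
    exact (hα a (Finset.mem_filter.1 ha).2 (D.finite_roots.mem_toFinset.1 (Finset.mem_filter.1 ha).1)).1
  · refine sup_le_sup_left (RGD.Sup_mono (S := D.Sz {e z}) (S' := D.Sz (A.map e)) fun a ha => not_not.1 fun h => ?_) _
    exact hz _ (Finset.mem_image_of_mem α (Finset.mem_filter.2 ⟨D.finite_roots.mem_toFinset.2 ha.1, h⟩)) ((hα a h ha.1).2 z (ha.2 _ rfl))

theorem num_rst {n B w m r : ℕ} (h : bd n B < r) (hn : n = w * 2 ^ m) (hw : 0 < w) : (w * B + 1) ^ 2 < r ∧ m * (w * B + 1) < r := by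
  have h1 : 2 ^ m ≤ n := hn ▸ Nat.le_mul_of_pos_left _ hw
  have h2 : w ≤ n := hn ▸ Nat.le_mul_of_pos_right _ (Nat.two_pow_pos m)
  have h3 : w * B + 1 ≤ 2 ^ (n * n) + 4 ^ (n * n) * n * B := by
    rw [add_comm, mul_assoc]
    exact Nat.add_le_add Nat.one_le_two_pow ((Nat.mul_le_mul_right B h2).trans (Nat.le_mul_of_pos_left _ (by positivity)))
  have h4 : m ≤ 2 ^ (n * n) + 4 ^ (n * n) * n * B :=
    (Nat.lt_two_pow_self.le.trans (h1.trans ((Nat.le_mul_self n).trans Nat.lt_two_pow_self.le))).trans (Nat.le_add_right _ _)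
  exact ⟨(Nat.pow_le_pow_left h3 2).trans_lt h, (Nat.mul_le_mul h4 h3).trans_lt (sq (2 ^ (n * n) + 4 ^ (n * n) * n * B) ▸ h)⟩

section Main

variable [Fintype (GF F G)] (hp : r ≠ p) (hW : ¬ r ∣ Nat.card D.W) {P : Subgroup (GF F G)} (hP : IsPGroup r P) {φ : GF F G → ℂ}
  (hφ : Sm r B φ) (hb : bd (nb D) B < r) (hC : C = G ⊓ centralizer (P.map (GF F G).subtype : Set Y))
  (e1 : ∀ g : GF F G, χ g = φ g) (e2 : ∀ g : GF F G, (g : Y) ∈ C → η g = rs r P φ g)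

include hC in
theorem mem_C {g : GF F G} : (g : Y) ∈ C ↔ g ∈ centralizer (P : Set (GF F G)) := by
  rw [hC]
  refine ⟨fun h a ha => Subtype.ext (h.2 _ ⟨a, ha, rfl⟩), fun h => ⟨g.2.1, ?_⟩⟩
  rintro _ ⟨a, ha, rfl⟩
  exact congrArg Subtype.val (h a ha)

include hC in
theorem tor_le_C (hT : T ∈ tori D) (hPT : ∀ a ∈ P, (a : Y) ∈ T) : T ≤ C := by
  obtain ⟨X', -, rfl⟩ := (Rg.top D).frame hT (tori_le hT)
  rw [hC]
  refine le_inf X'.T_le_G fun x hx => ?_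
  rintro _ ⟨a, ha, rfl⟩
  exact X'.T_comm (hPT a ha) hx

include hp hW hP hφ hb hC e2 in
theorem isCls_rs : IsCls (GF F C) η := fun g hg x hx => by
  have h0 : C ≤ G := hC ▸ inf_le_left
  have h1 := (big_GF D hp hW).rs_conj hP hφ hb (P' := P) (x := ⟨x, h0 hx.1, hx.2⟩) (g := ⟨g, h0 hg.1, hg.2⟩) (fun a => ?_)
    ((mem_C hC).1 hg.1)
  · exact (e2 (⟨x, h0 hx.1, hx.2⟩ * ⟨g, h0 hg.1, hg.2⟩ * ⟨x, h0 hx.1, hx.2⟩⁻¹)
      (mul_mem (mul_mem hx.1 hg.1) (inv_mem hx.1))).trans (h1.trans (e2 _ hg.1).symm)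
  · have h2 := (mem_C hC (g := ⟨x, h0 hx.1, hx.2⟩)).1 hx.1
    refine ⟨fun ha => by rwa [← h2 a ha, mul_inv_cancel_right], fun ha => ?_⟩
    have h3 := h2 _ ha
    rw [inv_mul_cancel_right, mul_right_inj] at h3
    rwa [h3]

include hp hW hP hφ hb hC e1 e2

/-- **the restrictions to a torus** -/
theorem rst_rs (HX : Ov D X) (hT : T ∈ tori D) (hPT : ∀ a ∈ P, (a : Y) ∈ T) :
    ∀ t ∈ T ⊓ GF F G, rst (GF F C) (R X) T η t = rst (GF F G) (R D) T χ t := fun t ht => by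
  classical
  have hB := big_GF D hp hW
  obtain ⟨ψ⟩ := exists_embedding r
  have e0 : res (GF F G) χ = φ := funext e1
  have H := LP.of_pair (Ov.refl D) (pair_Vof hT)
  have hTC := tor_le_C hC hT hPT
  have H' := H.cut ⟨X, HX⟩ HX.le hTC
  have eT : T ⊓ GF F C = T ⊓ GF F G := (GF_tor hTC).symm.trans (GF_tor (tori_le hT))
  have hcls := isCls_rs hp hW hP hφ hb hC e2
  obtain ⟨b, hb0⟩ := exists_isPPart r (⟨t, ht.2⟩ : GF F G)
  have htP : (⟨t, ht.2⟩ : GF F G) ∈ centralizer (P : Set (GF F G)) := (mem_C hC).1 (hTC ht.1)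
  have hQ := part_sup hP htP hb0
  have hbT : (b : Y) ∈ T := part_mem (K := T.comap (GF F G).subtype) hb0 ht.1
  obtain ⟨y, hy, w, hw, rfl⟩ := exists_y hT
  set D' := D.conj hy ⟨w, hw⟩
  have hQT : ∀ x : ↥(P ⊔ zpowers b), (x.1 : Y) ∈ D'.T := fun x =>
    (sup_le hPT (zpowers_le.2 hbT) : P ⊔ zpowers b ≤ (cj y D.T).comap (GF F G).subtype) x.2
  obtain ⟨s, h1, h2, h3⟩ := exists_rootcuts D' ((GF F G).subtype.comp (P ⊔ zpowers b).subtype)
    (Subtype.val_injective.comp Subtype.val_injective) hQT (P.subgroupOf (P ⊔ zpowers b))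
  rw [← map_map, subgroupOf_map_subtype, inf_eq_left.2 le_sup_left] at h3
  obtain ⟨h4, h5⟩ := num_rst hb rfl Nat.card_pos
  let j : P →* ↥(cj y D.T ⊓ GF F G) := ((GF F G).subtype.comp P.subtype).codRestrict _ fun a => ⟨hPT a a.2, a.1.2⟩
  have h6 := Bd.zero hP ((bd_rst hT (e0 ▸ hφ.gen) (e0 ▸ hφ.nrm) j ht).sub (bd_const (rst (GF F C) (R X) (cj y D.T) η t))) s
    (fun α => α.comp (inclusion le_sup_left)) (fun α => (α ⟨b, mem_sup_right (mem_zpowers b)⟩)⁻¹)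
    (fun α hα h => h2 α hα (MonoidHom.ext fun a => DFunLike.congr_fun h ⟨a.1.1, a.2⟩)) h4
    ((Nat.mul_le_mul_right _ h1).trans_lt h5) fun a ha => ?_
  · have h7 := congrFun h6 1
    rw [Pi.sub_apply, map_one, Pi.zero_apply, sub_eq_zero] at h7
    exact h7.symm.trans (by rw [OneMemClass.coe_one, one_mul])
  have h7 := h3 (inclusion le_sup_left a * ⟨b, mem_sup_right (mem_zpowers b)⟩) fun α hα e =>
    ha α hα (by rw [map_mul] at e; exact eq_inv_of_mul_eq_one_left e)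
  obtain ⟨v, ev, -, ho, hv⟩ := part_mul hP htP hb0 a.2
  have hb' : ((a * b : GF F G) : Y) ∈ D'.T := mul_mem (hPT a a.2) hbT
  have ev' : ((a * b : GF F G) : Y) * v = (j a : Y) * t := congrArg Subtype.val ev
  have hvT : (v : Y) ∈ cj y D.T := (mul_mem_cancel_left hb').1 (ev' ▸ mul_mem (hPT a a.2) ht.1)
  have h8 : D'.cen {((a * b : GF F G) : Y)} ≤ C := h7.trans (hC ▸ le_inf (D'.cen_le_G _) (D'.cen_le_centralizer (by
    rintro _ ⟨x, hx, rfl⟩
    exact hPT x hx)))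
  have h9 : centralizer {(a * b : GF F G)} ≤ centralizer (P : Set (GF F G)) := fun c hc => (mem_C hC).1 (h8 ((cen_eq D' hW
    (Set.singleton_subset_iff.2 hb') fun z hz => ho.imp fun i e => by
      rw [hz, ← e, ← Subgroup.orderOf_coe, pow_orderOf_eq_one]).le
        ⟨c.2.1, mem_centralizer_singleton_iff.2 (congrArg Subtype.val (mem_centralizer_singleton_iff.1 hc))⟩))
  have haC : ∀ x ∈ C, (a.1 : Y) * x = x * a.1 := fun x hx => (hC ▸ hx).2 _ ⟨a, a.2, rfl⟩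
  have h10 := ures_loc ψ (pl_padic r) hp H ⟨X, HX⟩ hTC (b := ((a * b : GF F G) : Y)) (v := (v : Y)) (χ := χ) ⟨hb', (a * b : GF F G).2.2⟩
    (by rwa [IsUni, Subgroup.orderOf_coe]) ⟨H.rg.le_cco hT le_rfl hb' hvT, v.2.2⟩ (by rwa [IsSs, Subgroup.orderOf_coe])
    ((D'.cco_eq_cen hb').trans_le h8) (isCls_of_gen (e0 ▸ hφ.gen)) hcls fun c hc hs => by
      have hc' : c ∈ GF F G := ⟨cco_le _ _ hc.1, hc.2⟩
      have h11 : Gn r (centralizer P) (a * b * ⟨c, hc'⟩ : GF F G) := (gn_iff (isPPart_mul (Subtype.ext (comm_of_mem_cco hc.1).symm) ho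
        (by rwa [Subgroup.orderOf_mk]))).2 h9
      exact (e2 _ ((mem_C hC).2 h11.mem)).trans ((hB.rs_gn hP hφ hb h11).trans (e1 _).symm)
  rw [Pi.sub_apply, sub_eq_zero, rst_eq_ures hp ψ (pair_Vof hT) χ (mul_mem (j a).2 ht), rst_eq_ures hp ψ (H'.pair HX hT) η (eT ▸ ht)]
  rw [ev'] at h10
  refine h10.symm.trans ((ures_central H'.set1.toSet0 ⟨hTC (hPT a a.2), a.1.2.2⟩ haC η (hTC ht.1)).trans
    (congrFun (ures_congr fun g hg => ?_) t))
  have hg' : g ∈ GF F G := ⟨HX.le hg.1, hg.2⟩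
  exact (e2 (a * ⟨g, hg'⟩) (mul_mem (hTC (hPT a a.2)) hg.1)).trans
    ((hB.rs_mul hP hφ hb ((mem_C hC).1 hg.1) a.2).trans (e2 ⟨g, hg'⟩ hg.1).symm)

/-- **the multiplicities** -/
theorem ip_rs (HX : Ov D X) (hT : T ∈ tori D) (hPT : ∀ a ∈ P, (a : Y) ∈ T) (θ : Y → ℂ) :
    ip (GF F C) η (R X T θ) = ip (GF F G) χ (R D T θ) := by
  have hTC := tor_le_C hC hT hPT
  rw [(sys' X).ip_rst (HX.tori_eq.ge ⟨hT, hTC⟩), (sys' D).ip_rst hT, ← GF_tor hTC, GF_tor (tori_le hT)]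
  exact ip_congr (rst_rs hp hW hP hφ hb hC e1 e2 HX hT hPT) fun _ _ => rfl

end Main

end Cfsg.Agent.HZ.Gen
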