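import Cfsg.Agent.LV.Lift.Bij
import Cfsg.Agent.LV.One.All
import Cfsg.Agent.HZ.Gen.Rst

/-!
# HZ, big primes: existence (helper4)

For a large prime `m = 1 + d j` every character which is not trivial on a stable subtorus is not trivial on an `r`-element of the
subtorus fixed by `F ^ m`, for some prime `r > m` : `exists_big`.
-/

set_option autoImplicit false
set_option linter.unusedSectionVars false

namespace Cfsg.Agent.HZ.Gen

open Cfsg Cfsg.Agent.DL Cfsg.Agent.DL.PP Cfsg.Agent.DL.Mk Cfsg.Agent.DL.Uni Cfsg.Agent.RL Matrix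

/-- for all large primes of a progression -/
def Lg (Q : ℕ → Prop) : Prop := ∃ B M : ℕ, M ≠ 0 ∧ ∀ m : ℕ, m.Prime → B < m → m ≡ 1 [MOD M] → Q m

namespace Lg

variable {Q Q' : ℕ → Prop}

theorem of_forall (h : ∀ m, m.Prime → Q m) : Lg Q := ⟨0, 1, one_ne_zero, fun m hm _ _ => h m hm⟩

theorem prime : Lg Nat.Prime := of_forall fun _ h => h

theorem gt (B : ℕ) : Lg (B < ·) := ⟨B, 1, one_ne_zero, fun _ _ h _ => h⟩

theorem modEq {M : ℕ} (hM : M ≠ 0) : Lg (· ≡ 1 [MOD M]) := ⟨0, M, hM, fun _ _ _ h => h⟩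

theorem mono (h : Lg Q) (e : ∀ m, Q m → Q' m) : Lg Q' := h.imp fun _ h => h.imp fun _ h => ⟨h.1, fun m a b c => e m (h.2 m a b c)⟩

theorem and (h : Lg Q) (h' : Lg Q') : Lg fun m => Q m ∧ Q' m := by
  obtain ⟨B, M, h1, h2⟩ := h
  obtain ⟨B', M', h3, h4⟩ := h'
  exact ⟨B + B', M * M', mul_ne_zero h1 h3, fun m a b c => ⟨h2 m a (by omega) (c.of_mul_right _), h4 m a (by omega) (c.of_mul_left _)⟩⟩

theorem all {ι : Type*} {s : Set ι} (hs : s.Finite) {Q : ι → ℕ → Prop} (h : ∀ i ∈ s, Lg (Q i)) : Lg fun m => ∀ i ∈ s, Q i m := by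
  induction s, hs using Set.Finite.induction_on with
  | empty => exact of_forall fun _ _ _ h => h.elim
  | insert _ _ ih =>
    exact ((h _ (Set.mem_insert _ _)).and (ih fun i hi => h i (Set.mem_insert_of_mem _ hi))).mono fun m e i hi =>
      (Set.mem_insert_iff.1 hi).elim (fun a => a ▸ e.1) (e.2 i)

theorem all' {ι : Type*} [Finite ι] {Q : ι → ℕ → Prop} (h : ∀ i, Lg (Q i)) : Lg fun m => ∀ i, Q i m :=
  (all Set.finite_univ fun i _ => h i).mono fun _ e i => e i trivial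

theorem ex (h : Lg Q) : ∃ m, Q m := by
  obtain ⟨B, M, h1, h2⟩ := h
  obtain ⟨m, a, b, c⟩ := Nat.exists_prime_gt_modEq_one B h1
  exact ⟨m, h2 m a b c⟩

theorem lvl {d : ℕ} (hd : 0 < d) : Lg fun m => ∃ j, m = 1 + d * j := (prime.and (modEq hd.ne')).mono fun m h => by
  obtain ⟨j, hj⟩ := (Nat.modEq_iff_dvd' h.1.one_lt.le).1 h.2.symm
  exact ⟨j, by have := h.1.pos; omega⟩

end Lg

/-- the prime divisors of `(q ^ m - 1) / (q - 1)` are large -/
theorem big_of_dvd_gs {q m r : ℕ} (hq : 2 ≤ q) (hm : m.Prime) (hmq : q ≤ m) (hr : r.Prime) (h : r ∣ gs q m) : m < r ∧ ¬ r ∣ q := by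
  have := Fact.mk hr
  have := Fact.mk hm
  have h0 : ((gs q m : ℕ) : ZMod r) = 0 := (ZMod.natCast_eq_zero_iff _ _).2 h
  have h1 : (q : ZMod r) ^ m = 1 := by
    have h1 := congrArg (Nat.cast : ℕ → ZMod r) (gs_mul q m)
    rwa [Nat.cast_add, Nat.cast_add, Nat.cast_mul, h0, zero_mul, zero_add, zero_add, Nat.cast_one, Nat.cast_pow, eq_comm] at h1
  have h2 : (q : ZMod r) ≠ 0 := fun e => by simp [e, hm.ne_zero] at h1
  have h3 : (q : ZMod r) ≠ 1 := fun e => by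
    simp only [gs, Nat.cast_sum, Nat.cast_pow, e, one_pow, Finset.sum_const, Finset.card_range, nsmul_eq_mul, mul_one] at h0
    obtain rfl := (Nat.prime_dvd_prime_iff_eq hr hm).1 ((ZMod.natCast_eq_zero_iff _ _).1 h0)
    have h4 := Nat.le_of_dvd (by omega) ((Nat.modEq_iff_dvd' (by omega : 1 ≤ q)).1
      ((ZMod.natCast_eq_natCast_iff _ _ _).1 (e.symm ▸ Nat.cast_one)))
    omega
  have h4 := Nat.le_of_dvd (by have := hr.two_le; omega) (orderOf_eq_prime h1 h3 ▸ ZMod.orderOf_dvd_card_sub_one h2)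
  exact ⟨by have := hr.two_le; omega, fun e => h2 ((ZMod.natCast_eq_zero_iff _ _).2 e)⟩

theorem not_dvd_sum {d n : ℕ} (hd : 0 < d) (c : ℕ → ℤ) (h0 : c 0 ≠ 0) {t : ℕ} (ht : ∑ i ∈ Finset.range d, (c i).natAbs < t)
    (hn : t ^ d ≤ n) : ¬ (n : ℤ) ∣ ∑ i ∈ Finset.range d, (t : ℤ) ^ i * c i := fun h => by
  obtain ⟨d, rfl⟩ := Nat.exists_eq_add_one_of_ne_zero hd.ne'
  have h1 : (∑ i ∈ Finset.range (d + 1), (t : ℤ) ^ i * c i).natAbs < n := by
    refine ((Int.natAbs_sum_le _ _).trans (Finset.sum_le_sum (g := fun i => t ^ d * (c i).natAbs) fun i hi => ?_)).trans_lt ?_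
    · rw [Int.natAbs_mul, Int.natAbs_pow, Int.natAbs_natCast]
      exact Nat.mul_le_mul_right _ (Nat.pow_le_pow_right (by omega) (Nat.lt_succ_iff.1 (Finset.mem_range.1 hi)))
    · rw [← Finset.mul_sum]
      exact (Nat.mul_lt_mul_of_pos_left ht (Nat.pow_pos (by omega))).trans_le (pow_succ t d ▸ hn)
  have h2 := Int.eq_zero_of_dvd_of_natAbs_lt_natAbs h (by rwa [Int.natAbs_natCast])
  rw [Finset.sum_range_succ', pow_zero, one_mul, add_eq_zero_iff_neg_eq] at h2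
  refine h0 (Int.eq_zero_of_dvd_of_natAbs_lt_natAbs (d := t) (h2 ▸ (Finset.dvd_sum fun i _ =>
    (dvd_pow_self _ (Nat.succ_ne_zero i)).mul_right _).neg_right) ?_)
  rw [Int.natAbs_natCast]
  exact (Finset.single_le_sum (f := fun i => (c i).natAbs) (fun _ _ => Nat.zero_le _) (Finset.mem_range.2 d.succ_pos)).trans_lt ht

variable {p : ℕ} [Fact p.Prime] {k : Type} [Field k] [CharP k p] [IsAlgClosed k] {Y : Type} [Group Y] {N : Type}
  [Fintype N] [DecidableEq N] {ρ : Y →* GL N k} {F : MulAut Y} {G : Subgroup Y} {D : Datum p ρ F G} {d e : ℕ}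

/-- **big primes** -/
theorem exists_big (L : Lvl D d e) (u v : D.R → ℤ) (h : u ⬝ᵥ v ≠ 0) : ∃ B, ∀ m j : ℕ, m.Prime → B < m → m = 1 + d * j →
    ∃ r : ℕ, r.Prime ∧ m < r ∧ r ≠ p ∧ ∃ (v' : D.R → ℤ) (ξ : kˣ), v' ∈ Submodule.span ℤ (Set.range fun i : ℕ => D.Mx ^ i *ᵥ v) ∧
      (∃ a, ξ ^ r ^ a = 1) ∧ (F ^ m) (D.τ (coch v' ξ)) = D.τ (coch v' ξ) ∧ chr u (coch v' ξ) ≠ 1 := by
  have hp : p.Prime := Fact.out
  refine ⟨p ^ e + d * ∑ i ∈ Finset.range d, (u ⬝ᵥ D.Mx ^ i *ᵥ v).natAbs, fun m j hm hB hj => ?_⟩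
  have hq : 2 ≤ p ^ e := Nat.one_lt_pow L.e_pos.ne' hp.one_lt
  have h1 : ∑ i ∈ Finset.range d, (u ⬝ᵥ D.Mx ^ i *ᵥ v).natAbs < p ^ (e * j) :=
    (lt_of_mul_lt_mul_left (a := d) (by omega) (Nat.zero_le _)).trans
      ((Nat.lt_pow_self hp.one_lt).trans_le (Nat.pow_le_pow_right hp.pos (Nat.le_mul_of_pos_left _ L.e_pos)))
  have h2 := not_dvd_sum (n := gs (p ^ e) m) L.d_pos (fun i => u ⬝ᵥ D.Mx ^ i *ᵥ v) (by rwa [pow_zero, one_mulVec]) h1 (by
    rw [hj, add_comm, gs_succ, ← pow_mul, ← pow_mul, mul_assoc, mul_comm j]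
    exact Nat.le_add_left _ _)
  set g := ∑ i ∈ Finset.range d, ((p ^ (e * j) : ℕ) : ℤ) ^ i * (u ⬝ᵥ D.Mx ^ i *ᵥ v) with hg
  have h0 := gs_ne_zero hq hm.pos
  obtain ⟨r, hr, h3, h4⟩ : ∃ r, r.Prime ∧ r ∣ gs (p ^ e) m ∧ ¬ r ^ (gs (p ^ e) m).factorization r ∣ g.natAbs := by
    by_contra hc
    push Not at hc
    refine h2 (Int.natCast_dvd.2 ((Nat.dvd_iff_prime_pow_dvd_dvd _ _).2 fun r a hr ha => ?_))
    rcases a.eq_zero_or_pos with rfl | h5
    · exact one_dvd _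
    · exact (pow_dvd_pow r ((hr.pow_dvd_iff_le_factorization h0).1 ha)).trans (hc r hr ((dvd_pow_self r h5.ne').trans ha))
  obtain ⟨h5, h6⟩ := big_of_dvd_gs hq hm (by omega) hr h3
  obtain ⟨ζ, hζ⟩ := exists_prim (k := k) (p := p) (mul_pos L.e_pos hm.pos)
  have h7 : p ^ (e * m) - 1 = gs (p ^ e) m * (p ^ e - 1) := by rw [pow_mul, LV.Lift.gs_mul_pred (by omega)]
  obtain ⟨n, hn⟩ : r ^ (gs (p ^ e) m).factorization r ∣ p ^ (e * m) - 1 := h7 ▸ (Nat.ordProj_dvd _ r).mul_right _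
  have h8 : 1 < p ^ (e * m) := Nat.one_lt_pow (mul_pos L.e_pos hm.pos).ne' hp.one_lt
  have hξ := hζ.pow (by omega) (hn.trans (mul_comm _ _))
  have h9 : D.Mx ^ m = ((p : ℤ) ^ (e * j)) • D.Mx := hj ▸ LV.One.pow_Mx L j
  have h10 : D.Mx ^ d = ((p : ℤ) ^ e) • (1 : Matrix D.R D.R ℤ) := by simpa only [D.Wm_one, one_mul] using L.pow 1
  refine ⟨r, hr, h5, fun e' => h6 (e' ▸ dvd_pow_self p L.e_pos.ne'), (∑ i ∈ Finset.range d, (D.Mx ^ m) ^ i) *ᵥ v, ζ ^ n, ?_,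
    ⟨_, hξ.pow_eq_one⟩, ?_, fun h11 => h4 ?_⟩
  · rw [sum_mulVec]
    exact Submodule.sum_mem _ fun i _ => Submodule.subset_span ⟨m * i, congrArg (· *ᵥ v) (pow_mul _ _ _)⟩
  · rw [D.F_pow_τ, mon_coch, mulVec_mulVec, eq_add_of_sub_eq ((sub_one_mul _ _).symm.trans (mul_geom_sum (D.Mx ^ m) d)), add_mulVec, coch_add,
      ← pow_mul, mul_comm m, pow_mul, h10, _root_.smul_pow, one_pow, ← pow_mul, sub_mulVec, smul_mulVec, one_mulVec,
      show (p : ℤ) ^ (e * m) • v - v = ((p ^ (e * m) - 1 : ℕ) : ℤ) • v by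
        rw [Nat.cast_sub h8.le, sub_smul, Nat.cast_one, one_smul, Nat.cast_pow], coch_zsmul, zpow_natCast, pow_right_comm,
      hζ.pow_eq_one, one_pow, map_one, one_mul]
  · rw [chr_coch, hξ.zpow_eq_one_iff_dvd] at h11
    refine Int.natCast_dvd.1 (h11.trans (dvd_of_eq ?_))
    show u ⬝ᵥ _ = _
    rw [hg, sum_mulVec, dotProduct_sum]
    refine Finset.sum_congr rfl fun i _ => ?_
    rw [h9, _root_.smul_pow, smul_mulVec, dotProduct_smul, smul_eq_mul, Nat.cast_pow]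

theorem lg_lp (f : KZ.Lie.Fr D) : Lg (LV.Lift.Lp f) := LV.Lift.lp_of_large f

/-- **a proper Levi subgroup centralises an element of a big prime power order which is not central** -/
theorem lg_sep {C L V : Subgroup Y} (H : LP D C L V) (hne : L ≠ C) : Lg fun m => ∃ r : ℕ, r.Prime ∧ m < r ∧ r ≠ p ∧
    ∃ z ∈ GF (F ^ m) L, IsUni r z ∧ L ≤ Subgroup.centralizer {z} ∧ ¬ C ≤ Subgroup.centralizer {z} := by
  obtain ⟨X, lam, -, hs, rfl, -⟩ := H
  obtain ⟨a, ha, h0⟩ : ∃ a, X.Rt a ∧ lf X lam a ≠ 0 := by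
    by_contra hc
    push Not at hc
    exact hne ((Lv_congr fun a ha => iff_of_true (hc a ha) (lf_zero X a)).trans (Lv_zero X))
  obtain ⟨d, e, L⟩ := exists_lvl X
  obtain ⟨B, hB⟩ := exists_big L (X.wt a) lam h0
  refine ((Lg.prime.and (Lg.gt (B + Nat.card X.W))).and (Lg.lvl L.d_pos)).mono fun m ⟨⟨h1, h2⟩, j, hj⟩ => ?_
  obtain ⟨r, hr, h3, h4, v, ξ, h5, ⟨i, h6⟩, h7, h8⟩ := hB m j h1 (by omega) hj
  have := Fact.mk hr
  have h9 : X.τ (coch v ξ) ^ r ^ i = 1 := by rw [← map_pow, ← map_pow, h6, map_one, map_one]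
  have hZ := Set.singleton_subset_iff.2 (X.τ_mem (coch v ξ))
  refine ⟨r, hr, h3, h4, _, ⟨T_le_Lv X lam (X.τ_mem _), h7⟩,
    ((Nat.dvd_prime_pow hr).1 (orderOf_dvd_of_pow_eq_one h9)).imp fun _ h => h.2, fun x hx => ?_, fun h => h8 (Units.ext ?_)⟩
  · refine Subgroup.mem_centralizer_singleton_iff.2 (Subgroup.mem_centralizer_iff.1 (?_ : _ ∈ Subgroup.centralizer (Lv X lam : Set Y)) x hx)
    clear h7 h8 h9 hZ
    induction h5 using Submodule.span_induction with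
    | mem _ h =>
      obtain ⟨i, rfl⟩ := h
      rw [← mon_coch, ← X.F_pow_τ]
      induction i with
      | zero => exact fun y hy => ((Lv_eq X lam ▸ hy).2 _ ⟨ξ, rfl⟩).symm
      | succ i ih =>
        intro y hy
        have h10 := congrArg F (ih (F⁻¹ y) (((dLv hs).F_mem_G_iff _).1 (by rwa [MulAut.apply_inv_self])))
        rwa [map_mul, map_mul, MulAut.apply_inv_self, ← MulAut.mul_apply, ← pow_succ'] at h10
    | zero => rw [← zero_smul ℤ (0 : X.R → ℤ), coch_zsmul, zpow_zero, map_one, map_one]; exact one_mem _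
    | add _ _ _ _ h h' => rw [coch_add, map_mul]; exact mul_mem h h'
    | smul c _ _ h => rw [coch_zsmul, map_zpow, map_zpow]; exact zpow_mem h c
  · rw [← X.χ_τ]
    refine (mem_Sz_of_le hZ ha ?_).2 _ rfl
    rw [← cen_eq X (r := r) (fun h => by have := Nat.le_of_dvd Nat.card_pos h; omega) hZ fun z hz => ⟨i, hz ▸ h9⟩, inf_eq_left.2 h]
    exact (X_le_cen (D := X) (Z := ∅) ⟨ha, fun _ h => h.elim⟩).trans (X.cen_le_G _)

end Cfsg.Agent.HZ.Gen
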