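import Cfsg.Agent.HZ.Gen.Main
import Cfsg.Agent.S0961

/-!
# HZ, big primes: the formula of Curtis type (helper4)

`Big.curtis` : `l ≠ r` a prime, `u` the `l`-part of `g ∈ K = C(P)`, `|C(u) : C(u) ∩ K| ≤ c`, `r` large: `rs r P χ g = χ g`.
`Big.curtis'` : the same when `K` contains the `l'`-elements of `C(u)`.
-/

set_option autoImplicit false
set_option linter.unusedSectionVars false

namespace Cfsg.Agent.HZ.Gen

open Cfsg Subgroup Cfsg.Agent.Blocks.PPart Cfsg.Agent.H603.AP Cfsg.Agent.OddOrderCharacters.VChar Cfsg.Agent.Characters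

variable {H : Type*} [Group H] [Fintype H] {l r n B c N : ℕ} [hl : Fact l.Prime] {K P : Subgroup H} {g u : H} {χ : H → ℂ}

theorem part_hom {Q : Type*} [Group Q] (f : H →* Q) (h : IsPPart l g u) : IsPPart l (f g) (f u) := by
  obtain ⟨y, rfl, h1, ⟨k, h2⟩, h3⟩ := h
  obtain ⟨e, -, he⟩ := (Nat.dvd_prime_pow hl.out).1 (h2 ▸ orderOf_map_dvd f u)
  exact ⟨f y, (map_mul f _ _).symm, h1.map f, ⟨e, he⟩, fun h => h3 (h.trans (orderOf_map_dvd f y))⟩

open Classical in
theorem exists_ind (Z : Subgroup H) [Z.Normal] (hN : l ^ (Nat.card H).factorization l ∣ N) :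
    ∃ ε : H → ℂ, IsGeneralizedCharacter H ε ∧ ∀ g v, IsPPart l g v → ε g = if v ∈ Z then (N : ℂ) else 0 := by
  obtain ⟨m, rfl⟩ := (Nat.ordProj_dvd_ordProj_of_dvd Nat.card_pos.ne' (card_quotient_dvd_card Z) l).trans hN
  refine ⟨_, gen_nsmul m (gen_comp (QuotientGroup.mk' Z) (S0961.result l ⟨fun _ => 1, Core.isIrr_one⟩)), fun g v h => ?_⟩
  have h1 := part_hom (QuotientGroup.mk' Z) h
  have h2 : l ∣ orderOf (QuotientGroup.mk' Z g) ↔ v ∉ Z := by
    rw [← QuotientGroup.eq_one_iff, ← not_iff_not, not_not]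
    refine ⟨fun h2 => isPPart_unique h1 (isPPart_of_not_dvd h2), fun h2 => ?_⟩
    obtain ⟨y, h3, -, -, h4⟩ := h1
    rwa [← h3, show QuotientGroup.mk' Z v = 1 from h2, one_mul]
  simp only [Pi.smul_apply, Function.comp_apply, h2]
  split_ifs <;> simp [mul_comm]

/-- the cut-off function of a central `l`-element -/
theorem exists_eps (hu : u ∈ center H) (hu' : ∃ k, orderOf u = l ^ k) (hN : l ^ (Nat.card H).factorization l ∣ N) :
    ∃ ε : H → ℂ, IsGeneralizedCharacter H ε ∧ (∀ g, ‖ε g‖ ≤ N) ∧ (∀ g, IsPPart l g u → ε g = N) ∧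
      ∀ g v, IsPPart l g v → ε g ≠ 0 → v ∈ zpowers u ∧ u ∈ zpowers v := by
  classical
  have h0 : ∀ k : ℕ, (zpowers (u ^ k)).Normal := fun k => ⟨fun y hy g => by
    rwa [mem_center_iff.1 (zpowers_le.2 (pow_mem hu k) hy) g, mul_inv_cancel_right]⟩
  have h1 := h0 1
  rw [pow_one] at h1
  have h2 := h0 l
  obtain ⟨ε, h3, h4⟩ := exists_ind (zpowers u) hN
  obtain ⟨ε', h5, h6⟩ := exists_ind (zpowers (u ^ l)) hN
  obtain ⟨k, hk⟩ := hu'
  by_cases h : u = 1
  · refine ⟨ε, h3, fun g => ?_, fun g hg => by rw [h4 g u hg, if_pos (mem_zpowers u)], fun g v hg e => ⟨?_, h ▸ one_mem _⟩⟩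
    · obtain ⟨v, hv⟩ := exists_isPPart l g
      rw [h4 g v hv]
      split_ifs <;> simp
    · exact by_contra fun h7 => e (by rw [h4 g v hg, if_neg h7])
  refine ⟨ε - ε', gen_sub h3 h5, fun g => ?_, fun g hg => ?_, fun g v hg e => ?_⟩
  · obtain ⟨v, hv⟩ := exists_isPPart l g
    rw [Pi.sub_apply, h4 g v hv, h6 g v hv]
    split_ifs <;> simp
  · rw [Pi.sub_apply, h4 g u hg, h6 g u hg, if_pos (mem_zpowers u), if_neg, sub_zero]
    rw [mem_zpowers_pow_iff, hk]
    refine fun e => h (orderOf_eq_one_iff.1 (hk.trans ?_))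
    exact Nat.Coprime.eq_one_of_dvd (Nat.Coprime.pow_right k (Nat.Coprime.symm e)) dvd_rfl
  · rw [Pi.sub_apply, h4 g v hg, h6 g v hg] at e
    have h7 : v ∈ zpowers u := by_contra fun h7 => e (by
      rw [if_neg h7, if_neg fun h8 => h7 (zpowers_le.2 (pow_mem (mem_zpowers u) l) h8), sub_self])
    obtain ⟨m, rfl⟩ := (Submonoid.mem_powers_iff _ _).1 (mem_powers_iff_mem_zpowers.2 h7)
    refine ⟨h7, mem_zpowers_pow_iff.2 (hk ▸ ((Nat.Prime.coprime_iff_not_dvd hl.out).2 ?_).symm.pow_right k)⟩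
    rintro ⟨m, rfl⟩
    exact e (by rw [if_pos h7, if_pos (pow_mul u l m ▸ pow_mem (mem_zpowers _) m), sub_self])

theorem sum_le_of_count (S : H → Prop) [DecidablePred S] {m : ℕ} (h : ∀ g, (Finset.univ.filter fun x => S (x * g * x⁻¹)).card ≤ m)
    (hχ : IsClassFunction H χ) : ∑ g with S g, ‖χ g‖ ^ 2 ≤ m * (classInner χ χ).re := by
  have h0 : (0 : ℝ) < Nat.card H := Nat.cast_pos.2 Nat.card_pos
  refine le_of_mul_le_mul_left ?_ h0
  calc (Nat.card H : ℝ) * ∑ g with S g, ‖χ g‖ ^ 2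
      = ∑ x : H, ∑ g, if S (x * g * x⁻¹) then ‖χ g‖ ^ 2 else 0 := by
        rw [Finset.sum_filter, Nat.card_eq_fintype_card, ← nsmul_eq_mul, ← Finset.card_univ, ← Finset.sum_const]
        exact Finset.sum_congr rfl fun x _ => (Fintype.sum_equiv (MulAut.conj x).toEquiv _ _ fun g => by
          rw [← hχ g x]; rfl).symm
    _ ≤ ∑ g, (m : ℝ) * ‖χ g‖ ^ 2 := by
        rw [Finset.sum_comm]
        refine Finset.sum_le_sum fun g _ => ?_
        rw [← Finset.sum_filter, Finset.sum_const, nsmul_eq_mul]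
        exact mul_le_mul_of_nonneg_right (Nat.cast_le.2 (h g)) (sq_nonneg _)
    _ = _ := by rw [← Finset.mul_sum, re_inner]; ring

open Classical in
/-- the norm on the elements whose `l`-part generates the same group as `u` -/
theorem sum_sec (u : H) (hχ : IsClassFunction H χ) : ∑ g with ∀ v, IsPPart l g v → v ∈ zpowers u ∧ u ∈ zpowers v, ‖χ g‖ ^ 2 ≤
    (Nat.card (centralizer {u}) * orderOf u : ℕ) * (classInner χ χ).re := by
  refine sum_le_of_count _ (fun g => ?_) hχ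
  obtain ⟨b, hb⟩ := exists_isPPart l g
  refine (Finset.card_le_mul_card_image (f := fun x => x * b * x⁻¹) _ (Nat.card (centralizer {u})) fun v hv => ?_).trans
    (Nat.mul_le_mul_left _ ?_)
  · obtain ⟨x, hx, rfl⟩ := Finset.mem_image.1 hv
    obtain ⟨k, hk⟩ := ((Finset.mem_filter.1 hx).2 _ (isPPart_conj hb x)).2
    have h1 : ∀ y, y * b * y⁻¹ = x * b * x⁻¹ → y * x⁻¹ ∈ centralizer {u} := fun y h1 => by
      rw [← hk]
      refine mem_cen.2 (Commute.zpow_right ?_ k)
      rw [Commute, SemiconjBy]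
      nth_rw 2 [← h1]
      group
    rw [← Nat.card_eq_finsetCard]
    exact Nat.card_le_card_of_injective (fun y => (⟨y.1 * x⁻¹, h1 _ (Finset.mem_filter.1 y.2).2⟩ : centralizer {u}))
      fun y z e => Subtype.ext (mul_right_cancel (congrArg Subtype.val e))
  · rw [← Nat.card_zpowers, ← Nat.card_eq_finsetCard]
    refine Nat.card_mono (Set.toFinite _) (t := (zpowers u : Set H)) fun v hv => ?_
    obtain ⟨x, hx, rfl⟩ := Finset.mem_image.1 hv
    exact ((Finset.mem_filter.1 hx).2 _ (isPPart_conj hb x)).1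

theorem sq_lt (h : bd n B < r) : n ^ 2 < r :=
  lt_of_le_of_lt (Nat.pow_le_pow_left (((Nat.le_mul_self n).trans Nat.lt_two_pow_self.le).trans (Nat.le_add_right _ _)) 2) h

theorem mul_lt_of_sq {a b r : ℕ} (h : a ^ 2 < r) (h' : b ^ 2 < r) : a * b < r := by nlinarith [sq_nonneg ((a : ℤ) - b)]

/-- a subgroup which contains the `l'`-elements has an `l`-power index -/
theorem index_le (h : ∀ y, ¬ l ∣ orderOf y → y ∈ K) : K.index ≤ l ^ (Nat.card H).factorization l := by
  have h1 : ∀ q, q.Prime → q ∣ K.index → q = l := fun q hq h2 => by_contra fun h3 => by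
    have := Fact.mk hq
    let R : Sylow q H := default
    refine R.not_dvd_index (h2.trans (index_dvd_of_le fun y hy => h y fun h4 => ?_))
    obtain ⟨k, hk⟩ := ord_of_mem R.2 hy
    exact h3 ((Nat.prime_dvd_prime_iff_eq hl.out hq).1 (hl.out.dvd_of_dvd_pow (hk ▸ h4))).symm
  have h2 := Nat.eq_prime_pow_of_unique_prime_dvd (p := l) (n := K.index) FiniteIndex.index_ne_zero fun {q} => h1 q
  rw [h2]
  exact Nat.pow_le_pow_right hl.out.pos ((hl.out.pow_dvd_iff_le_factorization Nat.card_pos.ne').1 (h2 ▸ K.index_dvd_card))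

variable [hr : Fact r.Prime]

/-- **(3)** -/
theorem Big.curtis (hB : Big H r n) (hP : IsPGroup r P) (hχ : Sm r B χ) (hb : bd n B < r) (hlr : l ≠ r)
    (hg : g ∈ centralizer (P : Set H)) (hu : IsPPart l g u) (hc : (centralizer (P : Set H)).relIndex (centralizer {u}) ≤ c)
    (hN : l ^ (Nat.card H).factorization l ≤ N) (hb' : (N ^ 3 * c * B + 1) ^ 2 < r) : rs r P χ g = χ g := by
  classical
  set M := l ^ (Nat.card H).factorization l
  let C := centralizer {u} ⊓ centralizer (P : Set H)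
  have h1 := part_mem hu hg
  have h2 : P ≤ C := fun a ha => ⟨mem_cen.2 (h1 a ha), hB.ab' hP ha⟩
  have h3 : u ∈ C := ⟨mem_cen.2 (Commute.refl u), h1⟩
  have h4 : g ∈ C := ⟨mem_cen.2 (part_comm hu (Commute.refl g)), hg⟩
  obtain ⟨k, hk⟩ := hu.choose_spec.2.2.1
  obtain ⟨ε, h5, h6, h7, h8⟩ := exists_eps (l := l) (N := M) (u := (⟨u, h3⟩ : C)) (mem_center_iff.2 fun z => Subtype.ext (mem_cen.1 z.2.1))
    ⟨k, by rw [orderOf_mk, hk]⟩ (Nat.ordProj_dvd_ordProj_of_dvd Nat.card_pos.ne' C.card_subgroup_dvd_card l)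
  have h9 : orderOf u ≤ N := le_trans (by
    rw [hk]
    exact Nat.pow_le_pow_right hl.out.pos ((hl.out.pow_dvd_iff_le_factorization Nat.card_pos.ne').1 (hk ▸ orderOf_dvd_natCard u))) hN
  have h10 : Nat.card (centralizer {u}) ≤ c * Nat.card C := by
    rw [← (C.subgroupOf (centralizer {u})).index_mul_card, Nat.card_congr (subgroupOfEquivOfLe inf_le_left).toEquiv]
    exact Nat.mul_le_mul_right _ ((inf_relIndex_left _ _).trans_le hc)
  have h11 : (classInner (ε * χ ∘ C.subtype) (ε * χ ∘ C.subtype)).re ≤ (N ^ 3 * c * B : ℕ) := by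
    have h0 : (0 : ℝ) < Nat.card C := Nat.cast_pos.2 Nat.card_pos
    refine le_of_mul_le_mul_left ?_ h0
    rw [← re_inner]
    calc ∑ x, ‖(ε * χ ∘ C.subtype) x‖ ^ 2 ≤ ∑ x with ε x ≠ 0, (N : ℝ) ^ 2 * ‖χ (C.subtype x)‖ ^ 2 := by
          rw [Finset.sum_filter]
          refine Finset.sum_le_sum fun x _ => ?_
          rw [Pi.mul_apply, norm_mul, mul_pow]
          split_ifs with h
          · exact mul_le_mul_of_nonneg_right (pow_le_pow_left₀ (norm_nonneg _) ((h6 x).trans (Nat.cast_le.2 hN)) 2) (sq_nonneg _)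
          · simp [not_not.1 h]
      _ ≤ N ^ 2 * ((c * Nat.card C * N : ℕ) * B) := by
          rw [← Finset.mul_sum, ← Finset.sum_image (f := fun g => ‖χ g‖ ^ 2) C.subtype_injective.injOn]
          refine mul_le_mul_of_nonneg_left ((Finset.sum_le_sum_of_subset_of_nonneg (fun x hx => ?_) fun _ _ _ => sq_nonneg _).trans
            ((sum_sec (l := l) u (gen_isClassFunction hχ.gen)).trans (mul_le_mul (Nat.cast_le.2 (Nat.mul_le_mul h10 h9)) hχ.nrm
              (classInner_self_re_nonneg χ) (Nat.cast_nonneg _)))) (sq_nonneg _)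
          obtain ⟨x, hx', rfl⟩ := Finset.mem_image.1 hx
          obtain ⟨v, hv⟩ := exists_isPPart l x
          obtain ⟨⟨i, hi⟩, j, hj⟩ := h8 x v hv (Finset.mem_filter.1 hx').2
          refine Finset.mem_filter.2 ⟨Finset.mem_univ _, fun w hw => ?_⟩
          rw [isPPart_unique hw (isPPart_coe hv)]
          exact ⟨⟨i, congrArg Subtype.val hi⟩, j, congrArg Subtype.val hj⟩
      _ = _ := by push_cast; ring
  have h12 := bd_central (gen_mul h5 (gen_comp C.subtype hχ.gen)) h11 (inclusion h2)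
    (fun a => mem_center_iff.2 fun z => Subtype.ext (z.2.2 a a.2).symm) ⟨g, h4⟩
  have h13 : ∀ a : P, ε (inclusion h2 a * ⟨g, h4⟩) = M := fun a => h7 _ (by
    obtain ⟨y, rfl, h14, -, h15⟩ := hu
    have h16 := (mul_mem_cancel_left h3).1 h4
    obtain ⟨e, he⟩ := ord_of_mem hP a.2
    refine ⟨inclusion h2 a * ⟨y, h16⟩, Subtype.ext ?_, Subtype.ext ?_, ⟨k, by rw [orderOf_mk, hk]⟩, fun h => ?_⟩
    · exact (mul_assoc _ _ _).symm.trans ((congrArg (· * y) (h1 a a.2).symm).trans (mul_assoc _ _ _))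
    · exact (mem_cen.1 (mul_mem (h2 a.2) h16).1).symm.eq
    · rw [← orderOf_coe] at h
      rcases (Nat.Prime.dvd_mul hl.out).1 (h.trans (Commute.orderOf_mul_dvd_mul_orderOf (h16.2 a a.2))) with h | h
      · exact hlr ((Nat.prime_dvd_prime_iff_eq hl.out hr.out).1 (hl.out.dvd_of_dvd_pow (he ▸ h)))
      · exact h15 h)
  obtain ⟨b, hb0⟩ := exists_isPPart r g
  obtain ⟨t, h14, h15, h16⟩ := hB.exists_cutsP hP (part_sup hP hg hb0)
  have h17 := (h12.sub (bd_const (M * rs r P χ g))).zero hP t (fun α => α.comp (inclusion le_sup_left))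
    (fun α => (α ⟨b, mem_sup_right (mem_zpowers b)⟩)⁻¹) h15 hb' (mul_lt_of_sq (lt_of_le_of_lt (Nat.pow_le_pow_left h14 2) (sq_lt hb)) hb') fun a ha => by
      rw [Pi.sub_apply, Pi.mul_apply, h13, hB.rs_eq hP hχ hb hg a.2 ((gn_iff (part_mul hP hg hb0 a.2)).2
        (h16 (inclusion le_sup_left a * ⟨b, mem_sup_right (mem_zpowers b)⟩) fun α hα e =>
          ha α hα (eq_inv_of_mul_eq_one_left ((map_mul α _ _).symm.trans e))))]
      exact sub_self _
  have h18 := congrFun h17 1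
  rw [Pi.sub_apply, Pi.mul_apply, h13, map_one, one_mul] at h18
  exact (mul_left_cancel₀ (Nat.cast_ne_zero.2 (pow_pos hl.out.pos _).ne') (sub_eq_zero.1 h18)).symm

/-- **(3)**, when `K` contains `u` and the `l'`-elements of `C(u)` -/
theorem Big.curtis' (hB : Big H r n) (hP : IsPGroup r P) (hχ : Sm r B χ) (hb : bd n B < r) (hlr : l ≠ r) (hu : IsPPart l g u)
    (h1 : u ∈ centralizer (P : Set H)) (h2 : ∀ y, Commute y u → ¬ l ∣ orderOf y → y ∈ centralizer (P : Set H))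
    (hN : l ^ (Nat.card H).factorization l ≤ N) (hb' : (N ^ 4 * B + 1) ^ 2 < r) : rs r P χ g = χ g := by
  classical
  have h0 := index_le (l := l) (K := (centralizer (P : Set H)).subgroupOf (centralizer {u})) fun y hy =>
    h2 y (mem_cen.1 y.2) (by rwa [orderOf_coe])
  refine hB.curtis hP hχ hb hlr ?_ hu (c := N) ((h0.trans (Nat.le_of_dvd (pow_pos hl.out.pos _)
    (Nat.ordProj_dvd_ordProj_of_dvd Nat.card_pos.ne' (card_subgroup_dvd_card _) l))).trans hN) hN (by rwa [← pow_succ])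
  obtain ⟨y, rfl, h3, -, h4⟩ := hu
  exact mul_mem h1 (h2 y h3.symm h4)

end Cfsg.Agent.HZ.Gen
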