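import Cfsg.Agent.HZ.Gen.Main
import Cfsg.Agent.OddOrderCharacters.PF13.SumBound

/-!
# HZ, big primes: rationality at `r` and Galois automorphisms (helper4)

`ratR_of_fix` : values in `ℚ(ζ_m)`, `r ∤ m`, give `RatR r`; `RatR.fix` : the converse; `map_rs`, `rs_add`, ...
-/

set_option autoImplicit false
set_option linter.unusedSectionVars false

namespace Cfsg.Agent.HZ.Gen

open Cfsg Subgroup Cfsg.Agent.Blocks.PPart Cfsg.Agent.OddOrderCharacters.VChar Cfsg.Agent.Characters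
  Cfsg.Agent.OddOrderCharacters.PF13.SumBound

variable {H : Type*} [Group H] {r B B' : ℕ} {P : Subgroup H} {χ ψ : H → ℂ}

theorem map_rs (σ : ℂ → ℂ) (g : H) : σ (rs r P χ g) = rs r P (fun x => σ (χ x)) g := rfl

theorem rs_add : rs r P (χ + ψ) = rs r P χ + rs r P ψ := rfl

theorem rs_sub : rs r P (χ - ψ) = rs r P χ - rs r P ψ := rfl

theorem rs_neg : rs r P (-χ) = -rs r P χ := rfl

theorem rs_mul' : rs r P (χ * ψ) = rs r P χ * rs r P ψ := rfl

theorem rs_smul (c : ℂ) : rs r P (c • χ) = c • rs r P χ := rfl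

theorem rs_sum {ι : Type*} (t : Finset ι) (φ : ι → H → ℂ) : rs r P (∑ i ∈ t, φ i) = ∑ i ∈ t, rs r P (φ i) :=
  funext fun g => by simp only [rs, Finset.sum_apply]

theorem RatR.add (h : RatR r χ) (h' : RatR r ψ) : RatR r (χ + ψ) := fun b y h1 h2 h3 k hk => by
  rw [Pi.add_apply, Pi.add_apply, h b y h1 h2 h3 k hk, h' b y h1 h2 h3 k hk]

theorem RatR.sub (h : RatR r χ) (h' : RatR r ψ) : RatR r (χ - ψ) := fun b y h1 h2 h3 k hk => by
  rw [Pi.sub_apply, Pi.sub_apply, h b y h1 h2 h3 k hk, h' b y h1 h2 h3 k hk]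

theorem RatR.map (h : RatR r χ) (σ : ℂ → ℂ) : RatR r fun x => σ (χ x) := fun b y h1 h2 h3 k hk => congrArg σ (h b y h1 h2 h3 k hk)

theorem RatR.comp {L : Type*} [Group L] {ι : L →* H} (hι : Function.Injective ι) (h : RatR r χ) : RatR r (χ ∘ ι) :=
  fun b y h1 h2 h3 k hk => by
    rw [Function.comp_apply, Function.comp_apply, map_mul, map_mul, map_pow]
    exact h _ _ (h1.map ι) (by rwa [orderOf_injective ι hι]) (by rwa [orderOf_injective ι hι]) k hk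

theorem Sm.mono [Fintype H] (h : Sm r B χ) (e : B ≤ B') : Sm r B' χ := ⟨h.gen, h.nrm.trans (Nat.cast_le.2 e), h.rat⟩

variable [hr : Fact r.Prime]

/-- values in a cyclotomic field of level prime to `r` -/
theorem ratR_of_fix [Finite H] (hχ : IsGeneralizedCharacter H χ) {m : ℕ} (hm : ¬ r ∣ m)
    (h : ∀ σ : ℂ ≃+* ℂ, (∀ z : ℂ, z ^ m = 1 → σ z = z) → ∀ g, σ (χ g) = χ g) : RatR r χ := by
  rintro b y h1 ⟨j, h2⟩ h3 k hk
  have h4 : (r ^ j).Coprime (m * orderOf y) := Nat.Coprime.pow_left j (hr.out.coprime_iff_not_dvd.2 (hr.out.not_dvd_mul hm h3))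
  obtain ⟨e, h5, h6⟩ := Nat.chineseRemainder h4 k 1
  have h7 : r ^ j * (m * orderOf y) ≠ 0 := mul_ne_zero (pow_pos hr.out.pos j).ne' fun e => hr.out.not_dvd_mul hm h3 (e ▸ dvd_zero r)
  obtain ⟨σ, hσ⟩ := GaloisBasic.exists_ringEquiv_pow (m := e) h7 (Nat.Coprime.mul_right
    (by rw [Nat.Coprime, h5.gcd_eq]; exact hk.pow_right j)
    (by rw [Nat.Coprime, h6.gcd_eq, Nat.gcd_one_left]))
  have h8 := gen_map_apply σ.toRingHom hσ hχ h7 (g := b * y) (by
    rw [h1.mul_pow, pow_mul, ← h2, pow_orderOf_eq_one, one_pow, one_mul, ← mul_assoc, pow_mul', pow_orderOf_eq_one, one_pow])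
  rw [h1.mul_pow, pow_eq_pow_iff_modEq.2 (h2 ▸ h5), pow_eq_pow_iff_modEq.2 (h6.of_mul_left m), pow_one] at h8
  refine h8.symm.trans (h σ (fun z hz => ?_) _)
  rw [hσ z (by rw [mul_left_comm, pow_mul, hz, one_pow]), pow_eq_pow_of_modEq (h6.of_mul_right _) hz, pow_one]

/-- the converse -/
theorem RatR.fix [Finite H] (hχ : IsGeneralizedCharacter H χ) (h : RatR r χ) (σ : ℂ ≃+* ℂ)
    (hσ : ∀ (m : ℕ) (z : ℂ), ¬ r ∣ m → m ∣ Nat.card H → z ^ m = 1 → σ z = z) (g : H) : σ (χ g) = χ g := by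
  obtain ⟨b, y, rfl, h1, ⟨j, h2⟩, h3⟩ := exists_isPPart r g
  have h0 : r * Nat.card H ≠ 0 := mul_ne_zero hr.out.ne_zero Nat.card_pos.ne'
  obtain ⟨e, h4, h5⟩ := GaloisBasic.exists_coprime_pow σ.toRingHom h0
  have h6 := gen_map_apply σ.toRingHom h5 hχ h0 (g := b * y) (by rw [pow_mul', pow_card_eq_one', one_pow])
  have h7 := Complex.isPrimitiveRoot_exp _ (orderOf_pos y).ne'
  have h8 : y ^ e = y := by
    have h9 := (h5 _ ((h7.pow_eq_one_iff_dvd _).2 ((orderOf_dvd_natCard y).mul_left r))).symm.trans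
      ((hσ _ _ h3 (orderOf_dvd_natCard y) h7.pow_eq_one).trans (pow_one _).symm)
    rw [(isOfFinOrder_iff_pow_eq_one.2 ⟨_, orderOf_pos y, h7.pow_eq_one⟩).pow_inj_mod, ← h7.eq_orderOf] at h9
    exact (pow_eq_pow_iff_modEq.2 h9).trans (pow_one y)
  rw [h1.mul_pow, h8, h b y h1 ⟨j, h2⟩ h3 e (Nat.Coprime.coprime_mul_right_right h4)] at h6
  exact h6

end Cfsg.Agent.HZ.Gen
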