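import Cfsg.Agent.OddOrderCharacters.VChar
import Cfsg.Agent.Characters.Linear
import Cfsg.Agent.CharDeep.DegreeBound

/-!
# HZ, big primes: functions with a small Fourier support (helper4)

* `Sp S φ`, `Bd N φ` : `φ` is a combination of the linear characters in `S`, of at most `N` linear characters;
* `exists_good`, `card_bad` : an `r`-group is not covered by few fibres of characters;
* `Bd.zero`, `Bd.const` : the two Vandermonde arguments; `exists_delta` : a cut-off function with average one;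
* `bd_central` : a virtual character of small norm along a central subgroup; `gen_avg` : the trivial part.
-/

set_option autoImplicit false
set_option linter.unusedSectionVars false

namespace Cfsg.Agent.HZ.Gen

open Cfsg Cfsg.Agent.Characters Cfsg.Agent.Characters.Core Cfsg.Agent.OddOrderCharacters.VChar
open scoped ComplexConjugate

variable {A : Type*} [Group A] {r N N' : ℕ} {S S' : Finset (A →* ℂˣ)} {φ φ' : A → ℂ}

/-- combinations of the characters in `S` -/
def Sp (S : Finset (A →* ℂˣ)) (φ : A → ℂ) : Prop :=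
  φ ∈ Submodule.span ℂ ((fun (ν : A →* ℂˣ) a => (ν a : ℂ)) '' (S : Set (A →* ℂˣ)))

/-- combinations of at most `N` characters -/
def Bd (N : ℕ) (φ : A → ℂ) : Prop := ∃ S : Finset (A →* ℂˣ), S.card ≤ N ∧ Sp S φ

theorem sp_iff : Sp S φ ↔ ∃ u : (A →* ℂˣ) → ℂ, ∀ a, φ a = ∑ ν ∈ S, u ν * ν a := by
  rw [Sp, Submodule.mem_span_image_finset_iff_exists_fun']
  refine exists_congr fun u => ⟨fun h a => ?_, fun h => funext fun a => ?_⟩
  · rw [← h, Finset.sum_apply]
    rfl
  · rw [h, Finset.sum_apply]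
    rfl

theorem Sp.mono (h : Sp S φ) (hS : S ⊆ S') : Sp S' φ := Submodule.span_mono (Set.image_mono hS) h

theorem Sp.sub (h : Sp S φ) (h' : Sp S φ') : Sp S (φ - φ') := sub_mem h h'

theorem Sp.smul (h : Sp S φ) (c : ℂ) : Sp S (c • φ) := Submodule.smul_mem _ c h

theorem sp_sum {ι : Type*} (t : Finset ι) (ν : ι → A →* ℂˣ) (c : ι → ℂ) (h : ∀ i ∈ t, ν i ∈ S)
    (e : ∀ a, φ a = ∑ i ∈ t, c i * ν i a) : Sp S φ := by
  have : φ = ∑ i ∈ t, c i • fun a => (ν i a : ℂ) := funext fun a => by rw [e, Finset.sum_apply]; rfl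
  rw [this]
  exact Submodule.sum_mem _ fun i hi => Submodule.smul_mem _ _ (Submodule.subset_span ⟨_, h i hi, rfl⟩)

theorem bd_sum {ι : Type*} (t : Finset ι) (ν : ι → A →* ℂˣ) (c : ι → ℂ) (h : t.card ≤ N)
    (e : ∀ a, φ a = ∑ i ∈ t, c i * ν i a) : Bd N φ := by
  classical
  exact ⟨t.image ν, Finset.card_image_le.trans h, sp_sum t ν c (fun i hi => Finset.mem_image_of_mem ν hi) e⟩

theorem Bd.mono (h : Bd N φ) (e : N ≤ N') : Bd N' φ := h.imp fun _ h => ⟨h.1.trans e, h.2⟩

theorem Bd.sub (h : Bd N φ) (h' : Bd N' φ') : Bd (N + N') (φ - φ') := by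
  classical
  obtain ⟨S, h1, h2⟩ := h
  obtain ⟨S', h3, h4⟩ := h'
  exact ⟨S ∪ S', (Finset.card_union_le _ _).trans (add_le_add h1 h3),
    (h2.mono Finset.subset_union_left).sub (h4.mono Finset.subset_union_right)⟩

theorem bd_const (c : ℂ) : Bd 1 fun _ : A => c := bd_sum {()} (fun _ => 1) (fun _ => c) le_rfl fun _ => by simp

theorem bd_prod {ι : Type*} (t : Finset ι) (ν : ι → A →* ℂˣ) : Bd (2 ^ t.card) fun a => ∏ i ∈ t, (1 - (ν i a : ℂ)) := by
  classical
  refine bd_sum t.powerset (fun J => ∏ i ∈ J, ν i) (fun J => (-1) ^ J.card) (Finset.card_powerset t).le fun a => ?_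
  simp only [sub_eq_add_neg, Finset.prod_one_add, MonoidHom.finsetProd_apply, Units.coe_prod]
  exact Finset.sum_congr rfl fun J _ => Finset.prod_neg _

theorem gen_lin (ν : A →* ℂˣ) : IsGeneralizedCharacter A fun a => (ν a : ℂ) := gen_of_irr (Linear.isIrrCharacter_hom ν)

theorem gen_prod {ι : Type*} (t : Finset ι) (ν : ι → A →* ℂˣ) : IsGeneralizedCharacter A fun a => ∏ i ∈ t, (1 - (ν i a : ℂ)) := by
  classical
  induction t using Finset.induction_on with
  | empty =>
    simp only [Finset.prod_empty]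
    exact gen_one
  | insert j t hj ih =>
    simp only [Finset.prod_insert hj]
    exact gen_mul (gen_sub gen_one (gen_lin (ν j))) ih

/-- the Vandermonde argument along a progression -/
theorem Sp.zero (h : Sp S φ) {a b : A} (hb : Set.InjOn (fun ν : A →* ℂˣ => ν b) S) (h0 : ∀ k < S.card, φ (a * b ^ k) = 0) :
    φ = 0 := by
  obtain ⟨u, hu⟩ := sp_iff.1 h
  let e := S.equivFin.symm
  have h1 := Matrix.eq_zero_of_forall_pow_sum_mul_pow_eq_zero (f := fun j => ((e j).1 b : ℂ)) (v := fun j => u (e j) * (e j).1 a)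
    (fun i j hij => e.injective (Subtype.ext (hb (e i).2 (e j).2 (Units.ext hij)))) fun i => by
      rw [← h0 i i.2, hu, ← Finset.sum_coe_sort S, ← e.sum_comp]
      exact Finset.sum_congr rfl fun j _ => by rw [map_mul, map_pow, Units.val_mul, Units.val_pow_eq_pow_val, mul_assoc]
  funext x
  rw [hu]
  refine Finset.sum_eq_zero fun ν hν => ?_
  have h2 := congrFun h1 (e.symm ⟨ν, hν⟩)
  simp only [Equiv.apply_symm_apply, Pi.zero_apply, mul_eq_zero, Units.ne_zero, or_false] at h2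
  rw [h2, zero_mul]

section PG

variable [Finite A] [hr : Fact r.Prime] (hA : IsPGroup r A)
include hA

theorem card_fiber {ν : A →* ℂˣ} (hν : ν ≠ 1) (c : ℂˣ) : r * {a | ν a = c}.ncard ≤ Nat.card A := by
  rcases Set.eq_empty_or_nonempty {a | ν a = c} with h | ⟨a, ha⟩
  · rw [h, Set.ncard_empty]
    exact Nat.zero_le _
  have h1 : {a | ν a = c}.ncard = Nat.card ν.ker := by
    rw [← Nat.card_coe_set_eq, ← show ν a = c from ha]
    exact Nat.card_congr (ν.fiberEquivKer a)
  obtain ⟨k, hk⟩ := hA.index ν.ker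
  have h2 : k ≠ 0 := fun e => hν (MonoidHom.ker_eq_top_iff.1 (Subgroup.index_eq_one.1 (by rw [hk, e, pow_zero])))
  rw [h1, ← ν.ker.index_mul_card, hk]
  exact Nat.mul_le_mul_right _ (Nat.le_self_pow h2 r)

theorem card_bad {ι : Type*} (t : Finset ι) (ν : ι → A →* ℂˣ) (c : ι → ℂˣ) (h : ∀ i ∈ t, ν i ≠ 1) :
    r * {a | ∃ i ∈ t, ν i a = c i}.ncard ≤ t.card * Nat.card A := by
  classical
  induction t using Finset.induction_on with
  | empty => simp
  | insert j t hj ih =>
    have h1 : {a | ∃ i ∈ insert j t, ν i a = c i} = {a | ν j a = c j} ∪ {a | ∃ i ∈ t, ν i a = c i} := by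
      ext a
      simp
    have h2 := card_fiber hA (h j (Finset.mem_insert_self _ _)) (c j)
    have h3 := ih fun i hi => h i (Finset.mem_insert_of_mem hi)
    have h4 := Nat.mul_le_mul_left r (Set.ncard_union_le {a | ν j a = c j} {a | ∃ i ∈ t, ν i a = c i})
    rw [h1, Finset.card_insert_of_notMem hj]
    linarith

theorem exists_good {ι : Type*} (t : Finset ι) (ν : ι → A →* ℂˣ) (c : ι → ℂˣ) (h : ∀ i ∈ t, ν i ≠ 1) (ht : t.card < r) :
    ∃ a, ∀ i ∈ t, ν i a ≠ c i := by
  by_contra h0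
  push Not at h0
  have h1 := card_bad hA t ν c h
  rw [Set.eq_univ_of_forall (s := {a | ∃ i ∈ t, ν i a = c i}) h0, Set.ncard_univ] at h1
  exact absurd (Nat.le_of_mul_le_mul_right h1 Nat.card_pos) (not_le.2 ht)

theorem exists_sep (hS : S.card ^ 2 < r) : ∃ b, Set.InjOn (fun ν : A →* ℂˣ => ν b) S := by
  classical
  obtain ⟨b, hb⟩ := exists_good hA S.offDiag (fun z => z.1 / z.2) (fun _ => 1)
    (fun z hz e => (Finset.mem_offDiag.1 hz).2.2 (div_eq_one.1 e)) (by rw [Finset.offDiag_card, ← sq]; omega)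
  refine ⟨b, fun ν hν ν' hν' e => by_contra fun h => hb (ν, ν') (Finset.mem_offDiag.2 ⟨hν, hν', h⟩) ?_⟩
  rw [MonoidHom.div_apply, div_eq_one]
  exact e

/-- a function with a small Fourier support which vanishes generically is zero -/
theorem Bd.zero (h : Bd N φ) {ι : Type*} (t : Finset ι) (ν : ι → A →* ℂˣ) (c : ι → ℂˣ) (h1 : ∀ i ∈ t, ν i ≠ 1)
    (hN : N ^ 2 < r) (ht : t.card * N < r) (h0 : ∀ a, (∀ i ∈ t, ν i a ≠ c i) → φ a = 0) : φ = 0 := by
  obtain ⟨S, hS, h⟩ := h
  obtain ⟨b, hb⟩ := exists_sep hA (S := S) (lt_of_le_of_lt (Nat.pow_le_pow_left hS 2) hN)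
  obtain ⟨a, ha⟩ := exists_good hA (t ×ˢ Finset.range N) (fun z => ν z.1) (fun z => c z.1 / ν z.1 (b ^ z.2))
    (fun z hz => h1 _ (Finset.mem_product.1 hz).1) (by rwa [Finset.card_product, Finset.card_range])
  refine h.zero (a := a) hb fun k hk => h0 _ fun i hi e => ha (i, k) (Finset.mem_product.2 ⟨hi, Finset.mem_range.2 (hk.trans_le hS)⟩) ?_
  rw [eq_div_iff_mul_eq', ← map_mul, e]

/-- a rational function is constant where the cut-off function does not vanish -/
theorem Bd.const {δ c : A → ℂ} (h : Bd N δ) (h' : Bd N' (δ * c)) (hc : ∀ a (k : ℕ), k.Coprime r → c (a ^ k) = c a)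
    (hN : (N + N') ^ 2 < r) : ∃ z, ∀ a, δ a ≠ 0 → c a = z := by
  classical
  obtain ⟨S, h1, h2⟩ := h
  obtain ⟨S', h3, h4⟩ := h'
  have h5 : (S ∪ S').card ≤ N + N' := (Finset.card_union_le _ _).trans (add_le_add h1 h3)
  have h6 := lt_of_le_of_lt (Nat.pow_le_pow_left h5 2) hN
  obtain ⟨b, hb⟩ := exists_sep hA h6
  have h7 := (((h2.mono Finset.subset_union_left).smul (c b)).sub (h4.mono Finset.subset_union_right)).zero (a := b) hb
    fun k hk => by
      have : k + 1 < r := lt_of_le_of_lt (hk.trans_le (Nat.le_self_pow two_ne_zero _)) h6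
      rw [← pow_succ', Pi.sub_apply, Pi.smul_apply, Pi.mul_apply, hc b _
        (Nat.coprime_of_lt_prime k.succ_ne_zero this hr.out).symm, smul_eq_mul, mul_comm, sub_self]
  exact ⟨c b, fun a ha => mul_left_cancel₀ ha (by rw [mul_comm (δ a) (c b)]; exact (sub_eq_zero.1 (congrFun h7 a)).symm)⟩

/-- a cut-off function with average one -/
theorem exists_delta [Fintype A] {R : Type*} [Group R] (j : A →* R) {ι : Type*} (t : Finset ι) (α : ι → R →* ℂˣ)
    (h : ∀ i ∈ t, (α i).comp j ≠ 1) (ht : 2 ^ t.card < r) : ∃ δ : R → ℂ, Bd (2 ^ t.card) δ ∧ IsGeneralizedCharacter R δ ∧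
      (∀ x, ∀ i ∈ t, α i x = 1 → δ x = 0) ∧ ∀ x, ∑ a, δ (j a * x) = Nat.card A := by
  classical
  induction t using Finset.induction_on with
  | empty => exact ⟨fun _ => 1, bd_const 1, gen_one, by simp, by simp⟩
  | insert i t hi ih =>
    rw [Finset.card_insert_of_notMem hi, pow_succ] at ht ⊢
    obtain ⟨δ, ⟨S, h1, h2⟩, h3, h4, h5⟩ := ih (fun i hi => h i (Finset.mem_insert_of_mem hi)) (by omega)
    obtain ⟨a₀, ha⟩ := DFunLike.ne_iff.1 (h i (Finset.mem_insert_self _ _))
    have h6 : r ≤ orderOf (α i (j a₀)) := by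
      obtain ⟨k, hk⟩ := hA a₀
      obtain ⟨e, -, he⟩ := (Nat.dvd_prime_pow hr.out).1 (orderOf_dvd_of_pow_eq_one (x := α i (j a₀)) (n := r ^ k)
        (by rw [← map_pow, ← map_pow, hk, map_one, map_one]))
      rw [he]
      exact Nat.le_self_pow (fun e0 => ha (orderOf_eq_one_iff.1 (by rw [← pow_zero r, ← e0]; exact he))) r
    obtain ⟨_, h7, h8⟩ := Finset.exists_mem_notMem_of_card_lt_card (s := S.image fun ν => (ν (j a₀))⁻¹)
      (t := (Finset.range r).image (α i (j a₀) ^ ·)) (by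
        rw [Finset.card_image_of_injOn (pow_injOn_Iio_orderOf.mono fun m hm =>
          (Finset.mem_range.1 hm).trans_le h6), Finset.card_range]
        exact Finset.card_image_le.trans_lt (by omega))
    obtain ⟨m, -, rfl⟩ := Finset.mem_image.1 h7
    obtain ⟨u, hu⟩ := sp_iff.1 h2
    have h9 : ∀ x, δ x * (α i ^ m) x = ∑ ν ∈ S, u ν * (ν * α i ^ m) x := fun x => by
      rw [hu, Finset.sum_mul]
      exact Finset.sum_congr rfl fun ν _ => by rw [MonoidHom.mul_apply, Units.val_mul, mul_assoc]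
    refine ⟨δ - δ * fun x => ((α i ^ m) x : ℂ), ?_, gen_sub h3 (gen_mul h3 (gen_lin _)), fun x i' hi' e => ?_, fun x => ?_⟩
    · rw [mul_two]
      exact Bd.sub ⟨S, h1, h2⟩ (bd_sum S (fun ν => ν * α i ^ m) u h1 h9)
    · rcases Finset.mem_insert.1 hi' with rfl | hi'
      · simp [e]
      · simp [h4 x i' hi' e]
    · simp only [Pi.sub_apply, Pi.mul_apply, Finset.sum_sub_distrib, h5, h9]
      rw [Finset.sum_comm, Finset.sum_eq_zero, sub_zero]
      intro ν hν
      simp only [map_mul, Units.val_mul, ← Finset.mul_sum, ← Finset.sum_mul]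
      rw [show ∑ a, ((ν * α i ^ m) (j a) : ℂ) = 0 from sum_hom_units_eq_zero
        ((Units.coeHom ℂ).comp ((ν * α i ^ m).comp j)) fun e => h8 (Finset.mem_image.2 ⟨ν, hν, inv_eq_of_mul_eq_one_right
          (Units.ext (DFunLike.congr_fun e a₀))⟩), zero_mul, mul_zero]

end PG

variable {L : Type*} [Group L] [Fintype L] {Φ : L → ℂ}

theorem re_inner (Φ : L → ℂ) : ∑ g, ‖Φ g‖ ^ 2 = Nat.card L * (classInner Φ Φ).re := by
  rw [classInner_self_eq, Complex.ofReal_re, mul_inv_cancel_left₀ (Nat.cast_ne_zero.2 Nat.card_pos.ne')]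

/-- a virtual character has at most as many constituents as its norm says -/
theorem exists_const (hΦ : IsGeneralizedCharacter L Φ) (hN : (classInner Φ Φ).re ≤ N) :
    ∃ (t : Finset (IrrCharacter L)) (m : IrrCharacter L → ℤ), t.card ≤ N ∧ ∀ g, Φ g = ∑ ψ ∈ t, m ψ * (ψ : L → ℂ) g := by
  classical
  have := finite_irr (G := L)
  have := Fintype.ofFinite (IrrCharacter L)
  obtain ⟨m, rfl⟩ := isGeneralizedCharacter_iff.1 hΦ
  refine ⟨Finset.univ.filter (m · ≠ 0), m, ?_, fun g => ?_⟩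
  · have h1 := classInner_sum_smul_sum_smul (fun ψ => (m ψ : ℂ)) fun ψ => (m ψ : ℂ)
    simp only [Int.cast_smul_eq_zsmul, map_intCast, ← Int.cast_mul, ← Int.cast_sum] at h1
    rw [h1, Complex.intCast_re] at hN
    have h2 : ((Finset.univ.filter (m · ≠ 0)).card : ℤ) ≤ ∑ ψ, m ψ * m ψ := by
      rw [Finset.card_filter, Nat.cast_sum]
      refine Finset.sum_le_sum fun ψ _ => ?_
      split_ifs with h
      · exact mul_self_pos.2 h
      · exact mul_self_nonneg _
    have h3 : ∑ ψ, m ψ * m ψ ≤ (N : ℤ) := by exact_mod_cast hN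
    exact_mod_cast h2.trans h3
  · rw [Finset.sum_apply, Finset.sum_filter]
    exact Finset.sum_congr rfl fun ψ _ => by split_ifs with h <;> simp_all

theorem exists_omega {ψ : L → ℂ} (hψ : IsIrrCharacter L ψ) (j : A →* L) (hj : ∀ a, j a ∈ Subgroup.center L) :
    ∃ ω : A →* ℂˣ, ∀ a g, ψ (j a * g) = ω a * ψ g := by
  choose w h1 h2 using fun a => CharDeep.DegreeBound.exists_omega hψ (hj a)
  have h3 : ∀ a g, ψ (j a * g) = w a * ψ g := fun a g => by rw [← Subgroup.mem_center_iff.1 (hj a) g, h2]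
  have h4 : ∀ a, w a ≠ 0 := fun a e => by simpa [e] using h1 a
  refine ⟨MonoidHom.mk' (fun a => Units.mk0 (w a) (h4 a)) fun a b => Units.ext ?_, h3⟩
  refine mul_right_cancel₀ (isIrr_apply_one_ne_zero hψ) ?_
  show w (a * b) * ψ 1 = w a * w b * ψ 1
  rw [← h3, map_mul, mul_assoc (j a), h3, h3, mul_assoc]

/-- **a virtual character along a central subgroup** -/
theorem bd_central (hΦ : IsGeneralizedCharacter L Φ) (hN : (classInner Φ Φ).re ≤ N) (j : A →* L)
    (hj : ∀ a, j a ∈ Subgroup.center L) (y : L) : Bd N fun a => Φ (j a * y) := by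
  obtain ⟨t, m, h1, h2⟩ := exists_const hΦ hN
  choose ω hω using fun ψ : IrrCharacter L => exists_omega ψ.2 j hj
  exact bd_sum t ω (fun ψ => m ψ * (ψ : L → ℂ) y) h1 fun a => by
    rw [h2]
    exact Finset.sum_congr rfl fun ψ _ => by rw [hω]; ring

/-- the trivial part along a factor -/
theorem gen_avg [Fintype A] {W : A × L → ℂ} (hW : IsGeneralizedCharacter (A × L) W) :
    IsGeneralizedCharacter L fun g => (Nat.card A : ℂ)⁻¹ * ∑ a, W (a, g) := by
  refine gen_of_inner_int (fun g x => congrArg _ (Finset.sum_congr rfl fun a _ => ?_)) fun χ hχ => ?_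
  · rw [← gen_isClassFunction hW (a, g) (1, x)]
    simp
  · obtain ⟨n, hn⟩ := gen_inner hW (gen_comp (MonoidHom.snd A L) (gen_of_irr hχ))
    refine ⟨n, Eq.trans ?_ hn⟩
    simp only [classInner, Fintype.sum_prod_type_right, Nat.card_prod, Finset.mul_sum, Finset.sum_mul, Function.comp_apply,
      MonoidHom.coe_snd]
    exact Finset.sum_congr rfl fun a _ => Finset.sum_congr rfl fun b _ => by push_cast; ring

end Cfsg.Agent.HZ.Gen
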