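import Cfsg.Agent.HZ.Gen.A
import Cfsg.Agent.H603.AP.Hat

/-!
# HZ, big primes: groups with an abelian Sylow subgroup of bounded fusion (helper4)

* `Big H r n` : Sylow `r`-subgroups `R` are abelian, at most `n` subgroups `C_R(h)`, `|N(R) : C(R)| ≤ n`; `Big.sub` : subgroups;
* `Gn r K g` : the centraliser of the `r`-part of `g` lies in `K`; `Big.sum_gn` : the norm on these elements;
* `Big.exists_cuts` : few characters of an `r`-subgroup cut out the generic elements.
-/

set_option autoImplicit false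
set_option linter.unusedSectionVars false

namespace Cfsg.Agent.HZ.Gen

open Cfsg Subgroup Cfsg.Agent.Blocks.PPart Cfsg.Agent.H603.AP
open scoped Pointwise

/-- abelian Sylow `r`-subgroups with bounded fusion -/
structure Big (H : Type*) [Group H] (r n : ℕ) : Prop where
  ab : ∀ R : Sylow r H, ∀ x ∈ R, ∀ y ∈ R, x * y = y * x
  cen : ∀ R : Sylow r H, (Set.range fun h : H => centralizer {h} ⊓ (R : Subgroup H)).ncard ≤ n
  nor : ∀ R : Sylow r H, (centralizer (R : Set H)).relIndex (normalizer (R : Set H)) ≤ n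

variable {H : Type*} [Group H] [Finite H] {r n : ℕ} [hr : Fact r.Prime] {K P : Subgroup H} {g b : H}

/-- the centraliser of the `r`-part lies in `K` -/
def Gn (r : ℕ) (K : Subgroup H) (g : H) : Prop := ∀ b, IsPPart r g b → centralizer {b} ≤ K

theorem gn_iff (h : IsPPart r g b) : Gn r K g ↔ centralizer {b} ≤ K :=
  ⟨fun h1 => h1 b h, fun h1 _ h2 => isPPart_unique h h2 ▸ h1⟩

theorem mem_cen {a c : H} : c ∈ centralizer {a} ↔ Commute c a := mem_centralizer_singleton_iff

theorem part_comm (h : IsPPart r g b) {c : H} (hc : Commute c g) : Commute c b := by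
  obtain ⟨m, hm⟩ := exists_pow_eq (G := H) r
  rw [← hm g b h]
  exact hc.pow_right m

theorem part_mem (h : IsPPart r g b) (hg : g ∈ K) : b ∈ K := by
  obtain ⟨m, hm⟩ := exists_pow_eq (G := H) r
  rw [← hm g b h]
  exact pow_mem hg m

theorem Gn.mem (h : Gn r K g) : g ∈ K := by
  obtain ⟨b, hb⟩ := exists_isPPart r g
  exact h b hb (mem_cen.2 (part_comm hb (Commute.refl g)))

theorem Gn.mono {K' : Subgroup H} (h : Gn r K g) (e : K ≤ K') : Gn r K' g := fun b hb => (h b hb).trans e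

theorem gn_conj (h : IsPPart r g b) (x : H) : Gn r K (x * g * x⁻¹) ↔ ∀ c, Commute c b → x * c * x⁻¹ ∈ K := by
  rw [gn_iff (isPPart_conj h x)]
  refine ⟨fun h1 c hc => h1 (mem_cen.2 (hc.map (MulAut.conj x))), fun h1 c hc => ?_⟩
  have h2 := h1 (x⁻¹ * c * x) (by simpa [mul_assoc] using (mem_cen.1 hc).map (MulAut.conj x⁻¹))
  simpa [mul_assoc] using h2

theorem Gn.conj (h : Gn r K g) {x : H} (hx : x ∈ K) : Gn r K (x * g * x⁻¹) := by
  obtain ⟨b, hb⟩ := exists_isPPart r g
  exact (gn_conj hb x).2 fun c hc => mul_mem (mul_mem hx (h b hb (mem_cen.2 hc))) (inv_mem hx)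

theorem ord_of_mem (hP : IsPGroup r P) {a : H} (ha : a ∈ P) : ∃ k, orderOf a = r ^ k := by
  obtain ⟨k, hk⟩ := IsPGroup.iff_orderOf.1 hP ⟨a, ha⟩
  exact ⟨k, by rw [← hk, orderOf_mk]⟩

theorem sup_p {A : Subgroup H} (hP : IsPGroup r P) (hA : IsPGroup r A) (h : A ≤ centralizer P) : IsPGroup r ↥(P ⊔ A) :=
  hP.to_sup_of_normal_left' hA (h.trans (centralizer_le_normalizer _))

theorem exists_lin {R : Type*} [Group R] [Finite R] (hR : ∀ x y : R, x * y = y * x) (Q : Subgroup R) {x y : R} (hx : x ∉ Q)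
    (hy : y ∉ Q) : ∃ α : R →* ℂˣ, (∀ z ∈ Q, α z = 1) ∧ α x ≠ 1 ∧ α y ≠ 1 := by
  let _ : CommGroup R := { ‹Group R› with mul_comm := hR }
  have : NeZero (Monoid.exponent R : ℂ) := ⟨Nat.cast_ne_zero.2 Monoid.exponent_ne_zero_of_finite⟩
  rw [← CommGroup.forall_monoidHom_apply_eq_one_iff ℂ] at hx hy
  push Not at hx hy
  obtain ⟨α, h1, h2⟩ := hx
  obtain ⟨β, h3, h4⟩ := hy
  by_cases h5 : α y = 1
  · by_cases h6 : β x = 1
    · exact ⟨α * β, fun z hz => by simp [h1 z hz, h3 z hz], by simpa [h6] using h2, by simpa [h5] using h4⟩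
    · exact ⟨β, h3, h6, h4⟩
  · exact ⟨α, h1, h2, h5⟩

namespace Big

variable (hB : Big H r n)
include hB

theorem ab' (hP : IsPGroup r P) : P ≤ centralizer P := by
  obtain ⟨R, hR⟩ := hP.exists_le_sylow
  exact fun x hx y hy => hB.ab R y (hR hy) x (hR hx)

theorem cen' (hP : IsPGroup r P) : (Set.range fun h : H => centralizer {h} ⊓ P).ncard ≤ n := by
  obtain ⟨R, hR⟩ := hP.exists_le_sylow
  refine le_trans (le_of_eq ?_) ((Set.ncard_image_le (f := (· ⊓ P))).trans (hB.cen R))
  rw [← Set.range_comp]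
  exact congrArg _ (congrArg _ (funext fun h => by rw [Function.comp_apply, inf_assoc, inf_eq_right.2 hR]))

theorem count (R : Sylow r H) (K : Subgroup H) :
    {x | ∀ c ∈ centralizer (R : Set H), x * c * x⁻¹ ∈ K}.ncard ≤ n * Nat.card K := by
  rcases Set.eq_empty_or_nonempty {x | ∀ c ∈ centralizer (R : Set H), x * c * x⁻¹ ∈ K} with h | ⟨x₀, h0⟩
  · rw [h, Set.ncard_empty]
    exact Nat.zero_le _
  have h1 : ∀ x, (∀ c ∈ centralizer (R : Set H), x * c * x⁻¹ ∈ K) → ((x • R : Sylow r H) : Subgroup H) ≤ K := fun x hx y hy => by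
    rw [Sylow.coe_subgroup_smul] at hy
    obtain ⟨c, hc, rfl⟩ := (mem_smul_pointwise_iff_exists _ _ _).1 hy
    exact hx c (hB.ab' R.2 hc)
  refine (Set.ncard_le_ncard (t := Set.range fun z : (normalizer (R : Set H) ⧸ (centralizer (R : Set H)).subgroupOf _) × K =>
    (z.2 : H) * x₀ * (z.1.out : H)⁻¹) fun x hx => ?_).trans ?_
  · obtain ⟨k, hk⟩ := MulAction.exists_smul_eq K ((x₀ • R).subtype (h1 _ h0)) ((x • R).subtype (h1 _ hx))
    rw [Sylow.smul_subtype] at hk
    have h2 : x⁻¹ * (k * x₀) ∈ normalizer (R : Set H) := by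
      rw [← Sylow.smul_eq_iff_mem_normalizer, mul_smul, mul_smul, inv_smul_eq_iff]
      exact Sylow.subtype_injective hk
    obtain ⟨z, hz⟩ := QuotientGroup.mk_out_eq_mul ((centralizer (R : Set H)).subgroupOf _) ⟨_, h2⟩
    refine ⟨(QuotientGroup.mk ⟨_, h2⟩, k * ⟨_, h0 _ z.2⟩), ?_⟩
    simp only [hz, coe_mul, coe_subtype]
    group
  · rw [← Set.image_univ]
    refine (Set.ncard_image_le).trans ?_
    rw [Set.ncard_univ, Nat.card_prod]
    exact Nat.mul_le_mul_right _ (hB.nor R)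

theorem nor' (hP : IsPGroup r P) : (centralizer (P : Set H)).relIndex (normalizer (P : Set H)) ≤ n := by
  obtain ⟨R, hR⟩ := hP.exists_le_sylow
  have h1 : Nat.card (normalizer (P : Set H)) ≤ n * Nat.card (centralizer (P : Set H)) := by
    refine le_trans ?_ (hB.count R _)
    refine Set.ncard_le_ncard (s := (normalizer (P : Set H) : Set H)) fun x hx c hc => ?_
    exact (normal_subgroupOf_iff (centralizer_le_normalizer _)).1 inferInstance c x (centralizer_le hR hc) hx
  rw [← ((centralizer (P : Set H)).subgroupOf (normalizer (P : Set H))).index_mul_card,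
    Nat.card_congr (subgroupOfEquivOfLe (centralizer_le_normalizer _)).toEquiv] at h1
  exact Nat.le_of_mul_le_mul_right h1 Nat.card_pos

/-- the subgroups `C(h)` seen from an `r`-group -/
theorem cen_hom {R : Type*} [Group R] (hR : IsPGroup r R) (e : R →* H) :
    (Set.range fun h : H => (centralizer {h}).comap e).ncard ≤ n := by
  refine le_trans (le_of_eq ?_) ((Set.ncard_image_le (f := comap e)).trans (hB.cen' (P := e.range) (hR.of_surjective _ e.rangeRestrict_surjective)))
  rw [← Set.range_comp]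
  exact congrArg _ (congrArg _ (funext fun h => by rw [Function.comp_apply, comap_inf, MonoidHom.comap_range_self, inf_top_eq]))

theorem sub {L : Type*} [Group L] (ι : L →* H) (hι : Function.Injective ι) : Big L r n := by
  have : Finite L := Finite.of_injective ι hι
  refine ⟨fun R x hx y hy => hι ?_, fun R => ?_, fun R => ?_⟩
  · rw [map_mul, map_mul]
    exact hB.ab' (R.2.map ι) (mem_map_of_mem ι hy) _ (mem_map_of_mem ι hx)
  · refine le_trans (Set.ncard_le_ncard ?_) ((Set.ncard_image_le (f := map (R : Subgroup L).subtype)).trans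
      (hB.cen_hom R.2 (ι.comp (R : Subgroup L).subtype)))
    rintro _ ⟨h, rfl⟩
    refine ⟨_, ⟨ι h, rfl⟩, ?_⟩
    beta_reduce
    rw [← comap_comap, ← subgroupOf, subgroupOf_map_subtype]
    congr 1
    ext x
    rw [mem_comap, mem_cen, mem_cen]
    exact ⟨fun h => h.of_map hι, fun h => h.map ι⟩
  · have h1 : centralizer (R : Set L) = (centralizer ((R : Subgroup L).map ι : Set H)).comap ι := by
      ext x
      refine ⟨?_, fun h y hy => hι ?_⟩
      · rintro h _ ⟨y, hy, rfl⟩
        rw [← map_mul, h y hy, map_mul]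
      · rw [map_mul, map_mul]
        exact h _ (mem_map_of_mem ι hy)
    rw [h1, relIndex_comap]
    exact (relIndex_le_of_le_right (le_normalizer_map ι) FiniteIndex.index_ne_zero).trans (hB.nor' (R.2.map ι))

theorem count_gn (K : Subgroup H) (g : H) : {x | Gn r K (x * g * x⁻¹)}.ncard ≤ n * Nat.card K := by
  obtain ⟨b, hb⟩ := exists_isPPart r g
  obtain ⟨R, hR⟩ := (isPGroup_zpowers hb.choose_spec.2.2.1).exists_le_sylow
  refine le_trans (Set.ncard_le_ncard ?_) (hB.count R K)
  exact fun x hx c hc => (gn_conj hb x).1 hx c (hc b (hR (mem_zpowers b))).symm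

open Classical in
/-- **the norm on the generic elements** -/
theorem sum_gn [Fintype H] (K : Subgroup H) {χ : H → ℂ} (hχ : IsClassFunction H χ) :
    ∑ g with Gn r K g, ‖χ g‖ ^ 2 ≤ n * Nat.card K * (classInner χ χ).re := by
  have h0 : (0 : ℝ) < Nat.card H := Nat.cast_pos.2 Nat.card_pos
  refine le_of_mul_le_mul_left ?_ h0
  calc (Nat.card H : ℝ) * ∑ g with Gn r K g, ‖χ g‖ ^ 2
      = ∑ x : H, ∑ g, if Gn r K (x * g * x⁻¹) then ‖χ g‖ ^ 2 else 0 := by
        rw [Finset.sum_filter, Nat.card_eq_fintype_card, ← nsmul_eq_mul, ← Finset.card_univ, ← Finset.sum_const]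
        exact Finset.sum_congr rfl fun x _ => (Fintype.sum_equiv (MulAut.conj x).toEquiv _ _ fun g => by
          rw [← hχ g x]; rfl).symm
    _ ≤ ∑ g, (n * Nat.card K : ℝ) * ‖χ g‖ ^ 2 := by
        rw [Finset.sum_comm]
        refine Finset.sum_le_sum fun g _ => ?_
        rw [← Finset.sum_filter, Finset.sum_const, nsmul_eq_mul]
        refine mul_le_mul_of_nonneg_right ?_ (sq_nonneg _)
        have h1 := hB.count_gn K g
        rw [Set.ncard_eq_toFinset_card', Set.toFinset_ofPred] at h1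
        exact_mod_cast h1
    _ = _ := by rw [← Finset.mul_sum, re_inner]; ring

/-- **few characters cut out the generic elements** -/
theorem exists_cuts {R : Type*} [Group R] (hR : IsPGroup r R) (e : R →* H) (he : Function.Injective e) (K : Subgroup H)
    (x y : H → R) (hx : ∀ h ∉ K, ¬ Commute (e (x h)) h ∧ ¬ Commute (e (y h)) h) :
    ∃ t : Finset (R →* ℂˣ), t.card ≤ n ∧ (∀ α ∈ t, ∃ h, α (x h) ≠ 1 ∧ α (y h) ≠ 1) ∧
      ∀ z, (∀ α ∈ t, α z ≠ 1) → centralizer {e z} ≤ K := by
  classical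
  have : Finite R := Finite.of_injective e he
  have h1 : ∀ a b : R, a * b = b * a := fun a b => he (by
    rw [map_mul, map_mul]
    exact hB.ab' (P := e.range) (hR.of_surjective _ e.rangeRestrict_surjective) ⟨b, rfl⟩ _ ⟨a, rfl⟩)
  let s : Set (Subgroup R) := (fun h : H => (centralizer {h}).comap e) '' (K : Set H)ᶜ
  have h2 : ∀ Q : s, ∃ α : R →* ℂˣ, (∀ z ∈ Q.1, α z = 1) ∧ ∃ h, α (x h) ≠ 1 ∧ α (y h) ≠ 1 := by
    rintro ⟨_, h, hh, rfl⟩
    obtain ⟨α, h3, h4⟩ := exists_lin h1 ((centralizer {h}).comap e) (fun h3 => (hx h hh).1 (mem_cen.1 h3))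
      fun h3 => (hx h hh).2 (mem_cen.1 h3)
    exact ⟨α, h3, h, h4⟩
  choose α h3 h4 using h2
  have := Fintype.ofFinite s
  refine ⟨Finset.univ.image α, Finset.card_image_le.trans ?_, fun β hβ => ?_, fun z hz h hh => by_contra fun hK => ?_⟩
  · rw [Finset.card_univ, ← Nat.card_eq_fintype_card, Nat.card_coe_set_eq]
    exact (Set.ncard_le_ncard (Set.image_subset_range _ _)).trans (hB.cen_hom hR e)
  · obtain ⟨Q, -, rfl⟩ := Finset.mem_image.1 hβ
    exact h4 Q
  · exact hz _ (Finset.mem_image_of_mem α (Finset.mem_univ ⟨_, h, hK, rfl⟩)) (h3 _ z (mem_cen.2 (mem_cen.1 hh).symm))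

end Big

end Cfsg.Agent.HZ.Gen
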