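import Cfsg.Agent.HZ.Gen.Main
import Cfsg.Agent.H650.WSum
import Cfsg.Agent.H662.IrrTransport
import Cfsg.Agent.S0923
import Cfsg.Agent.Characters.Clifford

/-!
# HZ, big primes: blocks (helper4)

* `nagao` : the second main theorem for a subgroup `K ≥ C(u)`;
* `Big.rs_block` : the `r`-block of a constituent of `rs r P χ` induces the `r`-block of `χ`; `Big.rs_ker` : `P` lies in its kernel.
-/

set_option autoImplicit false
set_option linter.unusedSectionVars false

namespace Cfsg.Agent.HZ.Gen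

open Cfsg Subgroup Cfsg.Agent.Blocks.PPart Cfsg.Agent.OddOrderCharacters.VChar Cfsg.Agent.Characters Cfsg.Agent.H650 Cfsg.Agent.H662
  Cfsg.Agent.Blocks.Basic
open scoped ComplexConjugate

variable {H : Type*} [Group H] [Fintype H] {p : ℕ} [Fact p.Prime] {M : Ideal AlgInt}

theorem bp_lin (β : Set (IrrCharacter H)) {ι : Type*} (t : Finset ι) (c : ι → ℂ) (φ : ι → H → ℂ) (y : H) :
    blockPart β (∑ i ∈ t, c i • φ i) y = ∑ i ∈ t, c i * blockPart β (φ i) y := by
  classical
  have := Core.finite_irr (G := H)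
  have := Fintype.ofFinite (IrrCharacter H)
  simp only [blockPart_eq_sum_filter, Finset.sum_apply, Pi.smul_apply, smul_eq_mul, Core.classInner_sum_left, Core.classInner_smul_left,
    Finset.sum_mul, Finset.mul_sum, mul_assoc]
  exact Finset.sum_comm

theorem bp_tr {H' : Type*} [Group H'] [Fintype H'] (e : H ≃* H') (β : Set (IrrCharacter H)) (ϑ : H' → ℂ) (y : H) :
    blockPart (trB e β) ϑ (e y) = blockPart β (ϑ ∘ e) y := by
  rw [Blocks.CentralizerSum.blockPart_eq, Blocks.CentralizerSum.blockPart_eq, finsum_trB]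
  refine finsum_congr fun ξ => finsum_congr fun _ => ?_
  rw [tr_apply_map, ← Clifford.classInner_comp_mulEquiv e]
  exact congrArg (fun f => classInner _ f * _) (funext fun x => tr_apply_map e ξ x)

/-- **the second main theorem for a subgroup which contains the centraliser** -/
theorem nagao (hM : IsPModular p M) {K : Subgroup H} {u : K} (hu : ∃ k, orderOf u = p ^ k) (hC : centralizer {(u : H)} ≤ K)
    {B : Set (IrrCharacter H)} (hB : IsPBlock M B) {χ : IrrCharacter H} (hχ : χ ∈ B) {b : Set (IrrCharacter K)} (hb : IsPBlock M b)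
    (hn : ¬ IsInducedBlock M K b B) {y : K} (hy : Commute y u) (hy' : ¬ p ∣ orderOf y) :
    blockPart b (fun k : K => (χ : H → ℂ) k) (u * y) = 0 := by
  classical
  have := Blocks.Local.isPrime_of_isPModular hM
  have := Core.finite_irr (G := K)
  have := Fintype.ofFinite (IrrCharacter K)
  let C := centralizer ({u} : Set K)
  let T : (K → ℂ) → C → ℂ := fun φ c => φ (u * c)
  let m : IrrCharacter K → ℂ := fun ψ => classInner (fun k : K => (χ : H → ℂ) k) ψ
  have hy1 : ¬ p ∣ orderOf (⟨y, mem_cen.2 hy⟩ : C) := by rwa [orderOf_mk]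
  have h1 : T (blockPart b fun k : K => (χ : H → ℂ) k) = ∑ ψ with ψ ∈ b, m ψ • T ψ := funext fun c => by
    simp only [T, blockPart_eq_sum_filter, Finset.sum_apply]
    rfl
  have h2 : T (fun k : K => (χ : H → ℂ) k) = ∑ ψ, m ψ • T ψ := funext fun c => by
    rw [Finset.sum_apply]
    exact (congrFun (gen_eq_sum (gen_restrict K (gen_of_irr χ.2))) _).trans (Finset.sum_apply _ _ _)
  have h3 : IsClassFunction C (T (blockPart b fun k : K => (χ : H → ℂ) k)) := fun c x => by
    simp only [T]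
    rw [← isClassFunction_blockPart b _ (u * c) x, ← mul_assoc (x : K), mem_cen.1 x.2]
    simp [mul_assoc]
  refine (congrFun (wSum_one M h3) ⟨y, mem_cen.2 hy⟩).symm.trans ?_
  rw [wSum_eq_finsum, finsum_mem_eq_zero_of_forall_eq_zero fun β hβ => ?_]
  rw [one_mul, h1, bp_lin]
  by_cases h : IsInducedBlock M C β b
  · let e : C ≃* centralizer {(u : H)} :=
      { toFun := fun c => ⟨c.1, mem_cen.2 ((mem_cen.1 c.2).map K.subtype)⟩
        invFun := fun c => ⟨⟨c, hC c.2⟩, mem_cen.2 (Subtype.ext (mem_cen.1 c.2))⟩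
        left_inv := fun _ => rfl
        right_inv := fun _ => rfl
        map_mul' := fun _ _ => rfl }
    have h4 := S0923.result p M hM (u : H) (by rwa [orderOf_coe]) B hB χ hχ _ (isPBlock_trB e hβ)
      (fun h4 => hn (induced_of_trans e (fun _ => rfl) h h4)) (e ⟨y, mem_cen.2 hy⟩) (by rwa [MulEquiv.orderOf_eq])
    rw [bp_tr, show _ ∘ e = T (fun k : K => (χ : H → ℂ) k) from rfl, h2, bp_lin,
      ← Finset.sum_filter_add_sum_filter_not _ (· ∈ b), Finset.sum_eq_zero (s := Finset.univ.filter (· ∉ b)), add_zero] at h4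
    · exact h4
    · intro ψ hψ
      exact mul_eq_zero_of_right _ (S0923.result p M hM u hu _ (isPBlock_blockOf ψ) ψ (mem_blockOf_self ψ) β hβ
        (fun h5 => (Finset.mem_filter.1 hψ).2 (inducedBlock_unique h5 h ▸ mem_blockOf_self ψ)) _ hy1)
  · exact Finset.sum_eq_zero fun ψ hψ => mul_eq_zero_of_right _ (S0923.result p M hM u hu b hb ψ (Finset.mem_filter.1 hψ).2 β hβ h _ hy1)

/-- a central element which fixes a function lies in the kernel of its constituents -/
theorem ker_of_inner {f ψ : H → ℂ} (hψ : IsIrrCharacter H ψ) {a : H} (ha : a ∈ center H) (hf : ∀ g, f (a * g) = f g)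
    (h : classInner f ψ ≠ 0) (g : H) : ψ (a * g) = ψ g := by
  obtain ⟨ω, hω⟩ := exists_omega hψ (center H).subtype fun z => z.2
  have h1 : classInner f ψ = conj (ω ⟨a, ha⟩ : ℂ) * classInner f ψ := by
    rw [← Core.classInner_smul_right, classInner, classInner, ← Equiv.sum_comp (Equiv.mulLeft a)]
    exact congrArg _ (Finset.sum_congr rfl fun x _ => by rw [Equiv.coe_mulLeft, hf]; exact congrArg (fun z => _ * conj z) (hω ⟨a, ha⟩ x))
  have h2 := congrArg conj (mul_right_cancel₀ h (h1.symm.trans (one_mul _).symm))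
  rw [Complex.conj_conj, map_one] at h2
  exact (hω ⟨a, ha⟩ g).trans (by rw [h2, one_mul])

variable {r n N : ℕ} [Fact r.Prime] {P : Subgroup H}

theorem Big.rs_ker (hB : Big H r n) (hP : IsPGroup r P) {χ : H → ℂ} (hχ : Sm r N χ) (hb : bd n N < r) {L : Type*} [Group L] [Fintype L]
    {ι : L →* H} (hι : Function.Injective ι) (hL : ι.range = centralizer P) {ψ : L → ℂ} (hψ : IsIrrCharacter L ψ)
    (h : classInner (rs r P χ ∘ ι) ψ ≠ 0) {a : L} (ha : ι a ∈ P) (g : L) : ψ (a * g) = ψ g := by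
  have hm : ∀ y, ι y ∈ centralizer (P : Set H) := fun y => hL ▸ ⟨y, rfl⟩
  refine ker_of_inner hψ (mem_center_iff.2 fun y => hι ?_) (fun g => ?_) h g
  · rw [map_mul, map_mul, hm y _ ha]
  · rw [Function.comp_apply, map_mul, hB.rs_mul hP hχ hb (hm g) ha, Function.comp_apply]

/-- **the block of a constituent induces the block of `χ`** -/
theorem Big.rs_block (hB : Big H r n) (hP : IsPGroup r P) (hM : IsPModular r M) {B : Set (IrrCharacter H)} (hB' : IsPBlock M B)
    {χ : IrrCharacter H} (hχB : χ ∈ B) (hχ : Sm r N (χ : H → ℂ)) (hb : bd n N < r) {K : Subgroup H} [Fintype K]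
    (hK : K = centralizer P) (ψ : IrrCharacter K) (h : classInner (rs r P (χ : H → ℂ) ∘ K.subtype) ψ ≠ 0) :
    IsInducedBlock M K (blockOf M (ψ : K → ℂ)) B := by
  classical
  have := Blocks.Local.isPrime_of_isPModular hM
  subst hK
  by_contra hn
  have h1 := gen_isClassFunction (hB.rs_gen hP hχ hb (subtype_injective _) (range_subtype _))
  have h2 := gen_isClassFunction (gen_restrict (centralizer (P : Set H)) hχ.gen)
  have h3 := classInner_blockPart (blockOf M (ψ : _ → ℂ)) (rs r P (χ : H → ℂ) ∘ (centralizer (P : Set H)).subtype) ψ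
  rw [if_pos (mem_blockOf_self ψ), show blockPart _ _ = 0 from funext fun g => ?_] at h3
  · exact h (h3.symm.trans (by simp [classInner]))
  obtain ⟨a, ha, h4⟩ := hB.exists_gn hP (by have := two_mul_lt hb; omega) g.2
  obtain ⟨u, hu⟩ := exists_isPPart r (⟨a, hB.ab' hP ha⟩ * g)
  have h5 := h4 _ (isPPart_coe hu)
  have h6 := (S0925.result r M hM).1 (rs r P (χ : H → ℂ) ∘ (centralizer (P : Set H)).subtype - fun k : centralizer (P : Set H) => (χ : H → ℂ) k)
    (fun x y => congrArg₂ (· - ·) (h1 x y) (h2 x y)) u hu.choose_spec.2.2.1 (fun w z hw hz => by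
      obtain ⟨c, rfl⟩ := isConj_iff.1 hz
      refine sub_eq_zero.2 (hB.rs_gn hP hχ hb ((gn_iff (isPPart_coe hw)).2 fun x hx => ?_))
      have h7 := h5 (x := c.1⁻¹ * x * c) (mem_cen.2 (by simpa [mul_assoc] using (mem_cen.1 hx).map (MulAut.conj c.1⁻¹)))
      exact (mul_mem_cancel_left (inv_mem c.2)).1 ((mul_mem_cancel_right c.2).1 h7)) _ (isPBlock_blockOf ψ) _ u hu (IsConj.refl u)
  obtain ⟨y, h7, h8, h9, h10⟩ := hu
  rw [blockPart_sub, Pi.sub_apply, ← h7, nagao hM h9 h5 hB' hχB (isPBlock_blockOf ψ) hn h8.symm h10, sub_zero, h7,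
    Blocks.BlockPart.blockPart_eq_sum _ h1] at h6
  rw [Blocks.BlockPart.blockPart_eq_sum _ h1]
  refine Eq.trans (Finset.sum_congr rfl fun k _ => congrArg _ ?_) h6
  refine (hB.rs_mul hP hχ hb (k * g).2 ha).symm.trans (congrArg _ ?_)
  exact (mul_assoc _ _ _).symm.trans ((congrArg (· * g.1) (k.2 a ha)).trans (mul_assoc _ _ _))

end Cfsg.Agent.HZ.Gen
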