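import Cfsg.Agent.HZ.Gen.B

/-!
# HZ, big primes: the restriction along generic elements (helper4)

`H` finite with `Big H r n`, `P` an `r`-subgroup, `K = C(P)`, `χ` a virtual character of norm `≤ B` which is rational at `r` (`Sm r B χ`),
`bd n B < r`.

* `rs r P χ g = χ (a * g)` for every `a ∈ P` such that the centraliser of the `r`-part of `a * g` lies in `K` (`Big.rs_eq`);
* `Big.sm_rs` : along `ι : L ≃ K` it is a virtual character of norm `≤ 2 n B`, rational at `r`;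
* `Big.rs_mul`, `Big.rs_conj`, `Big.rs_rs` : `P` acts trivially, conjugation, transitivity.
-/

set_option autoImplicit false
set_option linter.unusedSectionVars false

namespace Cfsg.Agent.HZ.Gen

open Cfsg Subgroup Cfsg.Agent.Blocks.PPart Cfsg.Agent.H603.AP Cfsg.Agent.OddOrderCharacters.VChar

variable {H : Type*} [Group H]

/-- rational at `r` -/
def RatR (r : ℕ) (χ : H → ℂ) : Prop :=
  ∀ b y : H, Commute b y → (∃ k, orderOf b = r ^ k) → ¬ r ∣ orderOf y → ∀ k : ℕ, k.Coprime r → χ (b ^ k * y) = χ (b * y)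

/-- a virtual character of norm `≤ B`, rational at `r` -/
structure Sm [Fintype H] (r B : ℕ) (χ : H → ℂ) : Prop where
  gen : IsGeneralizedCharacter H χ
  nrm : (classInner χ χ).re ≤ B
  rat : RatR r χ

/-- the bound for the prime -/
def bd (n B : ℕ) : ℕ := (2 ^ (n * n) + 4 ^ (n * n) * n * B) ^ 2

/-- a generic element of the coset `P g` -/
noncomputable def gel (r : ℕ) (P : Subgroup H) (g : H) : H := Classical.epsilon fun x => x * g⁻¹ ∈ P ∧ Gn r (centralizer P) x

/-- the restriction along generic elements -/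
noncomputable def rs (r : ℕ) (P : Subgroup H) (χ : H → ℂ) : H → ℂ := fun g => χ (gel r P g)

variable [Fintype H] {r n B : ℕ} [hr : Fact r.Prime] {K P : Subgroup H} {g b : H} {χ : H → ℂ}
  {L : Type*} [Group L] [Fintype L] {ι : L →* H}

theorem bd_mono {n' B' : ℕ} (h : n ≤ n') (h' : B ≤ B') : bd n B ≤ bd n' B' := by
  unfold bd
  gcongr <;> norm_num

theorem two_pow_lt (h : bd n B < r) : 2 ^ n < r :=
  lt_of_le_of_lt (((Nat.pow_le_pow_right two_pos (Nat.le_mul_self n)).trans (Nat.le_add_right _ _)).trans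
    (Nat.le_self_pow two_ne_zero _)) h

theorem two_mul_lt (h : bd n B < r) : 2 * n < r := by
  have h1 := two_pow_lt h
  rcases n with _ | m
  · omega
  · have := Nat.lt_two_pow_self (n := m)
    rw [pow_succ] at h1
    omega

theorem mem_cen_sup {c : H} (h : c ∈ centralizer (P : Set H)) (h' : Commute c b) : c ∈ centralizer ((P ⊔ zpowers b : Subgroup H) : Set H) :=
  fun _ hx => mem_cen.1 ((sup_le (fun y hy => mem_cen.2 (h y hy)) (zpowers_le.2 (mem_cen.2 h'.symm)) : _ ≤ centralizer {c}) hx)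

theorem part_sup (hP : IsPGroup r P) (hg : g ∈ centralizer (P : Set H)) (hb : IsPPart r g b) : IsPGroup r ↥(P ⊔ zpowers b) :=
  sup_p hP (isPGroup_zpowers hb.choose_spec.2.2.1) (zpowers_le.2 (part_mem hb hg))

theorem part_mul (hP : IsPGroup r P) (hg : g ∈ centralizer (P : Set H)) (hb : IsPPart r g b) {a : H} (ha : a ∈ P) :
    IsPPart r (a * g) (a * b) := by
  have h1 := ord_of_mem (part_sup hP hg hb) (mul_mem_sup ha (mem_zpowers b))
  have h2 : Commute a b := part_mem hb hg a ha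
  obtain ⟨y, rfl, h3, -, h4⟩ := hb
  refine ⟨y, mul_assoc _ _ _, Commute.mul_left ?_ h3, h1, h4⟩
  simpa using h2.inv_right.mul_right (hg a ha)

theorem exists_lift (hι : Function.Injective ι) (h : P ≤ ι.range) : ∃ j : P →* L, ∀ a, ι (j a) = a :=
  ⟨(MonoidHom.ofInjective hι).symm.toMonoidHom.comp (inclusion h), fun _ => MonoidHom.apply_ofInjective_symm hι _⟩

theorem norm_prod_le {κ : Type*} (t : Finset κ) {A : Type*} [Group A] [Finite A] (ν : κ → A →* ℂˣ) (a : A) :
    ‖∏ i ∈ t, (1 - (ν i a : ℂ))‖ ≤ 2 ^ t.card := by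
  rw [norm_prod, ← Finset.prod_const]
  refine Finset.prod_le_prod (fun _ _ => norm_nonneg _) fun i _ => ((norm_sub_le _ _).trans_eq ?_)
  rw [norm_one, Complex.norm_eq_one_of_pow_eq_one (n := Nat.card A) (by
    rw [← Units.val_pow_eq_pow_val, ← map_pow, pow_card_eq_one', map_one, Units.val_one]) Nat.card_pos.ne', one_add_one_eq_two]

namespace Big

variable (hB : Big H r n)
include hB

open Classical in
theorem sum_gn' (hι : Function.Injective ι) (hL : ι.range = K) (hχ : IsClassFunction H χ) :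
    ∑ g with Gn r K (ι g), ‖χ (ι g)‖ ^ 2 ≤ n * Nat.card L * (classInner χ χ).re := by
  rw [Nat.card_congr (MonoidHom.ofInjective hι).toEquiv, hL, ← Finset.sum_image (f := fun g => ‖χ g‖ ^ 2) hι.injOn]
  refine (Finset.sum_le_sum_of_subset_of_nonneg (fun x hx => ?_) fun _ _ _ => sq_nonneg _).trans (hB.sum_gn K hχ)
  obtain ⟨g, hg, rfl⟩ := Finset.mem_image.1 hx
  simpa using hg

/-- a bounded function supported on generic elements times a character has a bounded norm -/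
theorem nrm_mul (hι : Function.Injective ι) (hL : ι.range = K) (hχ : IsClassFunction H χ) {δ : L → ℂ} {M : ℝ}
    (h1 : ∀ g, ‖δ g‖ ≤ M) (h2 : ∀ g, δ g ≠ 0 → Gn r K (ι g)) :
    (classInner (δ * χ ∘ ι) (δ * χ ∘ ι)).re ≤ M ^ 2 * n * (classInner χ χ).re := by
  classical
  have h0 : (0 : ℝ) < Nat.card L := Nat.cast_pos.2 Nat.card_pos
  refine le_of_mul_le_mul_left ?_ h0
  rw [← re_inner]
  calc ∑ g, ‖(δ * χ ∘ ι) g‖ ^ 2 ≤ M ^ 2 * ∑ g with Gn r K (ι g), ‖χ (ι g)‖ ^ 2 := by
        rw [Finset.sum_filter, Finset.mul_sum]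
        refine Finset.sum_le_sum fun g _ => ?_
        rw [Pi.mul_apply, norm_mul, mul_pow]
        split_ifs with h
        · exact mul_le_mul_of_nonneg_right (pow_le_pow_left₀ (norm_nonneg _) (h1 g) 2) (sq_nonneg _)
        · simp [not_not.1 (mt (h2 g) h)]
    _ ≤ _ := (mul_le_mul_of_nonneg_left (hB.sum_gn' hι hL hχ) (sq_nonneg M)).trans_eq (by ring)

/-- the cut-off function on `C(P)` -/
theorem exists_hat (hP : IsPGroup r P) (hι : Function.Injective ι) (hL : ι.range = centralizer P) (j : P →* L)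
    (hj : ∀ a, ι (j a) = a) {b b' : P} (h1 : centralizer {(b : H)} ≤ centralizer P) (h2 : centralizer {(b' : H)} ≤ centralizer P) :
    ∃ (δ : L → ℂ) (θ : P → ℂ), IsGeneralizedCharacter L δ ∧ (∀ g, ‖δ g‖ ≤ 2 ^ (n * n)) ∧ (∀ g, δ g ≠ 0 → Gn r (centralizer P) (ι g)) ∧
      Bd (2 ^ (n * n)) θ ∧ θ b ≠ 0 ∧ θ b' ≠ 0 ∧ ∀ a y, ¬ r ∣ orderOf y → δ (j a * y) = θ a := by
  classical
  have hc : ∀ a y, Commute (j a) y := fun a y => Commute.of_map hι (by
    rw [hj]
    exact (hL ▸ ⟨y, rfl⟩ : ι y ∈ centralizer (P : Set H)) a a.2)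
  obtain ⟨R, hR⟩ := (hP.of_surjective _ j.rangeRestrict_surjective).exists_le_sylow
  let j' : P →* R := j.codRestrict _ fun a => hR ⟨a, rfl⟩
  obtain ⟨t, h3, h4, h5⟩ := hB.exists_cuts R.2 (ι.comp (R : Subgroup L).subtype) (hι.comp Subtype.coe_injective) (centralizer P)
    (fun _ => j' b) (fun _ => j' b') fun h hh =>
      ⟨fun e => hh (h1 (mem_cen.2 (hj b ▸ e.symm))), fun e => hh (h2 (mem_cen.2 (hj b' ▸ e.symm)))⟩
  have hab := (hB.sub ι hι).ab R
  let Γ := (R : Subgroup L).normalizerMonoidHom.range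
  have hΓ := Fintype.ofFinite Γ
  have h6 : (t ×ˢ (Finset.univ : Finset Γ)).card ≤ n * n := by
    rw [Finset.card_product, Finset.card_univ, ← Nat.card_eq_fintype_card, ← index_ker, normalizerMonoidHom_ker]
    exact Nat.mul_le_mul h3 ((hB.sub ι hι).nor R)
  let ν : (R →* ℂˣ) × Γ → R →* ℂˣ := fun z => z.1.comp z.2.1.toMonoidHom
  let θ : R → ℂ := fun x => ∏ z ∈ t ×ˢ Finset.univ, (1 - (ν z x : ℂ))
  have h7 : NInv R θ := fun m hm x y e => by
    obtain rfl : y = (R : Subgroup L).normalizerMonoidHom ⟨m, hm⟩ x := Subtype.ext e.symm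
    simp only [θ, Finset.prod_product]
    exact Finset.prod_congr rfl fun α _ => Fintype.prod_equiv (Equiv.mulRight ⟨_, ⟨m, hm⟩, rfl⟩) _ _ fun _ => rfl
  have h8 : ∀ a, (∀ α ∈ t, α (j' a) ≠ 1) → θ (j' a) ≠ 0 := fun a ha => Finset.prod_ne_zero_iff.2 fun z hz e => by
    obtain ⟨α, _, m, rfl⟩ := z
    refine ha α (Finset.mem_product.1 hz).1 (Units.ext (Eq.trans (congrArg (fun x => (α x : ℂ)) (Subtype.ext ?_)) (sub_eq_zero.1 e).symm))
    exact (mul_inv_eq_iff_eq_mul.2 (hc a m).symm).symm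
  refine ⟨hat R θ, θ ∘ j', isGeneralizedCharacter_hat hab h7 (gen_prod _ ν), fun g => ?_, fun g hg => ?_,
    (bd_prod _ fun z => (ν z).comp j').mono (Nat.pow_le_pow_right two_pos h6), h8 b fun α hα => (h4 α hα).choose_spec.1,
    h8 b' fun α hα => (h4 α hα).choose_spec.2, fun a y hy => hat_eq hab h7 (x := j' a) (isPPart_mul (hc a y) (order_pow R (j' a)) hy)
      (IsConj.refl _)⟩
  · obtain ⟨x, z, hz, hx⟩ := hat_exists R g
    rw [hat_eq hab h7 hz hx]
    exact (norm_prod_le _ ν x).trans (pow_le_pow_right₀ one_le_two h6)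
  · obtain ⟨x, z, hz, hx⟩ := hat_exists R g
    rw [hat_eq hab h7 hz hx] at hg
    obtain ⟨c, hc⟩ := isConj_iff.1 hx
    have h9 := isPPart_map ι hι (isPPart_conj hz c)
    rw [hc] at h9
    have h10 := ((gn_iff h9).2 (h5 x fun α hα e => Finset.prod_ne_zero_iff.1 hg (α, 1)
      (Finset.mem_product.2 ⟨hα, Finset.mem_univ _⟩) (sub_eq_zero.2 (congrArg Units.val e).symm))).conj
      (x := ι c⁻¹) (hL ▸ ι.mem_range.2 ⟨_, rfl⟩)
    simpa [mul_assoc] using h10

variable (hP : IsPGroup r P) (hχ : Sm r B χ) (hb : bd n B < r)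
include hP

/-- **the value does not depend on the generic element of `P`** -/
theorem const (hχ : Sm r B χ) (hb : bd n B < r) {y b b' : H} (hy : y ∈ centralizer (P : Set H)) (hy' : ¬ r ∣ orderOf y) (h : b ∈ P)
    (h' : b' ∈ P) (h1 : centralizer {b} ≤ centralizer P) (h2 : centralizer {b'} ≤ centralizer P) : χ (b * y) = χ (b' * y) := by
  classical
  obtain ⟨δ, θ, h3, h4, h5, h6, h7, h8, h9⟩ := hB.exists_hat hP (centralizer (P : Set H)).subtype_injective (range_subtype _)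
    (inclusion (hB.ab' hP)) (fun _ => rfl) (b := ⟨b, h⟩) (b' := ⟨b', h'⟩) h1 h2
  have h10 := bd_central (N := 4 ^ (n * n) * n * B) (gen_mul h3 (gen_comp (centralizer (P : Set H)).subtype hχ.gen))
    ((hB.nrm_mul (subtype_injective _) (range_subtype _) (gen_isClassFunction hχ.gen) h4 h5).trans (by
      rw [← pow_mul, mul_comm _ 2, pow_mul]
      push_cast
      exact (mul_le_mul_of_nonneg_left hχ.nrm (by positivity)).trans_eq (by norm_num))) (inclusion (hB.ab' hP))
    (fun a => mem_center_iff.2 fun z => Subtype.ext (z.2 a a.2).symm) ⟨y, hy⟩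
  simp only [Pi.mul_apply, h9 _ ⟨y, hy⟩ (by rwa [orderOf_mk])] at h10
  obtain ⟨z, hz⟩ := Bd.const hP (c := fun a : P => χ (a * y)) h6 h10 (fun a k hk => hχ.rat a y (hy a a.2) (ord_of_mem hP a.2) hy' k hk) hb
  exact (hz _ h7).trans (hz _ h8).symm

theorem exists_cutsP {A : Subgroup H} (hA : IsPGroup r ↥(P ⊔ A)) : ∃ t : Finset (↥(P ⊔ A) →* ℂˣ), t.card ≤ n ∧
    (∀ α ∈ t, α.comp (inclusion le_sup_left) ≠ 1) ∧ ∀ z, (∀ α ∈ t, α z ≠ 1) → centralizer {(z : H)} ≤ centralizer P := by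
  have h1 : ∀ h : H, ∃ a : P, h ∉ centralizer (P : Set H) → ¬ Commute (a : H) h := fun h => by
    by_contra h2
    push Not at h2
    exact (h2 1).1 fun a ha => (h2 ⟨a, ha⟩).2
  choose x hx using h1
  obtain ⟨t, h2, h3, h4⟩ := hB.exists_cuts hA (Subgroup.subtype _) (subtype_injective _) (centralizer P) (fun h => inclusion le_sup_left (x h))
    (fun h => inclusion le_sup_left (x h)) fun h hh => ⟨hx h hh, hx h hh⟩
  exact ⟨t, h2, fun α hα e => (h3 α hα).choose_spec.1 (DFunLike.congr_fun e _), h4⟩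

/-- few elements of a coset are not generic -/
theorem card_ngen (hg : g ∈ centralizer (P : Set H)) : r * {a : P | ¬ Gn r (centralizer P) (a * g)}.ncard ≤ n * Nat.card P := by
  obtain ⟨b, hb⟩ := exists_isPPart r g
  obtain ⟨t, h1, h2, h3⟩ := hB.exists_cutsP hP (part_sup hP hg hb)
  refine le_trans (Nat.mul_le_mul_left _ (Set.ncard_le_ncard fun a ha => ?_)) ((card_bad hP t (fun α => α.comp (inclusion le_sup_left))
    (fun α => (α ⟨b, mem_sup_right (mem_zpowers b)⟩)⁻¹) h2).trans (Nat.mul_le_mul_right _ h1))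
  by_contra h4
  exact ha ((gn_iff (part_mul hP hg hb a.2)).2 (h3 (inclusion le_sup_left a * ⟨b, mem_sup_right (mem_zpowers b)⟩) fun α hα e =>
    h4 ⟨α, hα, eq_inv_of_mul_eq_one_left ((map_mul α _ _).symm.trans e)⟩))

theorem exists_gn (hn : n < r) (hg : g ∈ centralizer (P : Set H)) : ∃ a ∈ P, Gn r (centralizer P) (a * g) := by
  by_contra h
  have h1 := hB.card_ngen hP hg
  rw [Set.eq_univ_of_forall (s := {a : P | ¬ Gn r (centralizer P) (a * g)}) fun a ha => h ⟨a, a.2, ha⟩, Set.ncard_univ] at h1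
  exact absurd (Nat.le_of_mul_le_mul_right h1 Nat.card_pos) (not_le.2 hn)

theorem gel_spec (hn : n < r) (hg : g ∈ centralizer (P : Set H)) : ∃ a ∈ P, gel r P g = a * g ∧ Gn r (centralizer P) (a * g) := by
  obtain ⟨a, ha, h⟩ := hB.exists_gn hP hn hg
  have h1 := Classical.epsilon_spec (p := fun x => x * g⁻¹ ∈ P ∧ Gn r (centralizer P) x) ⟨a * g, by simpa using ha, h⟩
  exact ⟨_, h1.1, (inv_mul_cancel_right _ _).symm, by rw [inv_mul_cancel_right]; exact h1.2⟩

include hχ hb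

theorem indep (hg : g ∈ centralizer (P : Set H)) {a a' : H} (ha : a ∈ P) (ha' : a' ∈ P) (h : Gn r (centralizer P) (a * g))
    (h' : Gn r (centralizer P) (a' * g)) : χ (a * g) = χ (a' * g) := by
  obtain ⟨b, hb'⟩ := exists_isPPart r g
  have h1 : ∀ a ∈ P, Gn r (centralizer P) (a * g) → centralizer {a * b} ≤ centralizer ((P ⊔ zpowers b : Subgroup H) : Set H) :=
    fun a ha h c hc => by
      have h2 := h _ (part_mul hP hg hb' ha) hc
      refine mem_cen_sup h2 ?_
      simpa using (Commute.inv_right (h2 a ha).symm).mul_right (mem_cen.1 hc)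
  have h2 := part_mem hb' hg
  have h3 := part_sup hP hg hb'
  obtain ⟨y, rfl, h4, -, h5⟩ := hb'
  rw [← mul_assoc, ← mul_assoc]
  exact hB.const h3 hχ hb (mem_cen_sup ((mul_mem_cancel_left h2).1 hg) h4.symm) h5 (mul_mem_sup ha (mem_zpowers b))
    (mul_mem_sup ha' (mem_zpowers b)) (h1 a ha h) (h1 a' ha' h')

/-- **(1)** -/
theorem rs_eq (hg : g ∈ centralizer (P : Set H)) {a : H} (ha : a ∈ P) (h : Gn r (centralizer P) (a * g)) : rs r P χ g = χ (a * g) := by
  obtain ⟨a', h1, h2, h3⟩ := hB.gel_spec hP (by have := two_mul_lt hb; omega) hg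
  rw [rs, h2]
  exact hB.indep hP hχ hb hg h1 ha h3 h

theorem rs_gn (h : Gn r (centralizer P) g) : rs r P χ g = χ g := by
  rw [hB.rs_eq hP hχ hb h.mem P.one_mem (by rwa [one_mul]), one_mul]

theorem rs_mul (hg : g ∈ centralizer (P : Set H)) {a : H} (ha : a ∈ P) : rs r P χ (a * g) = rs r P χ g := by
  have h0 := mul_mem (hB.ab' hP ha) hg
  obtain ⟨a', h1, h2⟩ := hB.exists_gn hP (by have := two_mul_lt hb; omega) h0
  rw [hB.rs_eq hP hχ hb h0 h1 h2, hB.rs_eq hP hχ hb hg (mul_mem h1 ha) (by rwa [mul_assoc]), mul_assoc]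

/-- conjugation: `P' = x P x⁻¹` -/
theorem rs_conj {P' : Subgroup H} {x : H} (hx : ∀ a, a ∈ P ↔ x * a * x⁻¹ ∈ P') (hg : g ∈ centralizer (P : Set H)) :
    rs r P' χ (x * g * x⁻¹) = rs r P χ g := by
  have h0 : ∀ c ∈ centralizer (P : Set H), x * c * x⁻¹ ∈ centralizer (P' : Set H) := fun c hc a ha => by
    have h1 : Commute (x⁻¹ * a * x) c := hc _ ((hx _).2 (by simpa [mul_assoc] using ha))
    simpa [mul_assoc] using (h1.map (MulAut.conj x)).eq
  have hP' : IsPGroup r P' := (hP.map (MulAut.conj x).toMonoidHom).to_le fun a ha =>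
    ⟨x⁻¹ * a * x, (hx _).2 (by simpa [mul_assoc] using ha), by simp [mul_assoc]⟩
  obtain ⟨a, h1, h2⟩ := hB.exists_gn hP (by have := two_mul_lt hb; omega) hg
  obtain ⟨b, h3⟩ := exists_isPPart r (a * g)
  have h4 : x * a * x⁻¹ * (x * g * x⁻¹) = x * (a * g) * x⁻¹ := by group
  rw [hB.rs_eq hP hχ hb hg h1 h2, hB.rs_eq hP' hχ hb (h0 g hg) ((hx a).1 h1) (by
    rw [h4]
    exact (gn_conj h3 x).2 fun c hc => h0 c (h2 b h3 (mem_cen.2 hc))), h4, gen_isClassFunction hχ.gen]

variable (hι : Function.Injective ι) (hL : ι.range = centralizer P)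
include hι hL

theorem rs_gen : IsGeneralizedCharacter L (rs r P χ ∘ ι) := by
  classical
  have hm : ∀ y, ι y ∈ centralizer (P : Set H) := fun y => hL ▸ ⟨y, rfl⟩
  refine Characters.Brauer.brauer_characterization _ (fun g x => ?_) fun E q hq hE => ?_
  · simp only [Function.comp_apply, map_mul, map_inv]
    exact hB.rs_conj hP hχ hb (centralizer_le_normalizer _ (hm x)) (hm g)
  have hnil := isNilpotent_elem hq hE
  obtain ⟨A, C, hA, hC, hcomm, f, hf⟩ := exists_prod_nil (E := E) r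
  have h1 := sup_p hP (hA.map (ι.comp E.subtype)) (by rintro _ ⟨x, -, rfl⟩; exact hm _)
  obtain ⟨t, h2, h3, h4⟩ := hB.exists_cutsP hP h1
  obtain ⟨δ, -, h5, h6, h7⟩ := exists_delta hP (inclusion le_sup_left) t id h3
    (lt_of_le_of_lt (Nat.pow_le_pow_right two_pos h2) (two_pow_lt hb))
  let f' : E →* ↥(P ⊔ A.map (ι.comp E.subtype)) := ((ι.comp E.subtype).comp (A.subtype.comp f)).codRestrict _ fun e =>
    mem_sup_right (mem_map_of_mem _ (f e).2)
  have h8 := gen_avg (gen_mul (gen_comp ((inclusion le_sup_left).noncommCoprod f' fun a e => Subtype.ext (hm _ a a.2)) h5)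
    (gen_comp (P.subtype.noncommCoprod (ι.comp E.subtype) fun a e => hm _ a a.2) hχ.gen))
  refine (congrArg _ (funext fun e => ?_)).mp h8
  have h9 : IsPPart r (ι e) (f' e) := by
    obtain ⟨y, hy⟩ := hf e
    exact isPPart_map (ι.comp E.subtype) (hι.comp Subtype.coe_injective)
      ⟨y, hy, hcomm _ _, ord_of_mem hA (f e).2, fun h => hC (h.trans (orderOf_coe y ▸ orderOf_dvd_natCard y))⟩
  rw [Finset.sum_congr rfl (g := fun a => δ (inclusion le_sup_left a * f' e) * rs r P χ (ι e)), ← Finset.sum_mul, h7,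
    inv_mul_cancel_left₀ (Nat.cast_ne_zero.2 Nat.card_pos.ne')]
  · rfl
  · intro a _
    by_cases h : δ (inclusion le_sup_left a * f' e) = 0
    · exact (mul_eq_zero_of_left h _).trans (mul_eq_zero_of_left h _).symm
    · rw [hB.rs_eq hP hχ hb (hm e) a.2 ((gn_iff (part_mul hP (hm e) h9 a.2)).2 (h4 _ fun α hα e => h (h6 _ α hα e)))]
      rfl

theorem rs_nrm : (classInner (rs r P χ ∘ ι) (rs r P χ ∘ ι)).re ≤ (2 * n * B : ℕ) := by
  classical
  have hm : ∀ y, ι y ∈ centralizer (P : Set H) := fun y => hL ▸ ⟨y, rfl⟩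
  obtain ⟨j, hj⟩ := exists_lift hι (hL ▸ hB.ab' hP)
  have h0 : (0 : ℝ) < Nat.card L := Nat.cast_pos.2 Nat.card_pos
  have h1 : (0 : ℝ) < Nat.card P := Nat.cast_pos.2 Nat.card_pos
  refine le_of_mul_le_mul_left (le_of_mul_le_mul_left ?_ h0) h1
  rw [mul_left_comm, ← re_inner]
  calc (Nat.card P : ℝ) * ∑ g, ‖(rs r P χ ∘ ι) g‖ ^ 2
      ≤ 2 * ∑ g, ∑ a : P, if Gn r (centralizer P) (ι (j a * g)) then ‖χ (ι (j a * g))‖ ^ 2 else 0 := by
        rw [Finset.mul_sum, Finset.mul_sum]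
        refine Finset.sum_le_sum fun g _ => ?_
        simp only [map_mul, hj]
        rw [← Finset.sum_filter, Finset.sum_congr rfl fun a ha => by
          rw [← hB.rs_eq hP hχ hb (hm g) a.2 (Finset.mem_filter.1 ha).2], Finset.sum_const, nsmul_eq_mul, ← mul_assoc]
        refine mul_le_mul_of_nonneg_right ?_ (sq_nonneg _)
        have h2 := hB.card_ngen hP (hm g)
        have h3 := Finset.card_filter_add_card_filter_not (s := Finset.univ) fun a : P => Gn r (centralizer P) (a * ι g)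
        rw [Set.ncard_eq_toFinset_card', Set.toFinset_ofPred] at h2
        rw [Finset.card_univ, ← Nat.card_eq_fintype_card] at h3
        have h4 := two_mul_lt hb
        have h5 : Nat.card P ≤ 2 * (Finset.univ.filter fun a : P => Gn r (centralizer P) (a * ι g)).card := by
          by_contra h5
          nlinarith
        exact_mod_cast h5
    _ = 2 * (Nat.card P * ∑ g with Gn r (centralizer P) (ι g), ‖χ (ι g)‖ ^ 2) := by
        rw [Finset.sum_comm, Finset.sum_filter, Nat.card_eq_fintype_card, ← nsmul_eq_mul, ← Finset.card_univ, ← Finset.sum_const]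
        exact congrArg _ (Finset.sum_congr rfl fun a _ => Fintype.sum_equiv (Equiv.mulLeft (j a)) _ _ fun _ => rfl)
    _ ≤ 2 * (Nat.card P * (n * Nat.card L * B)) := by
        gcongr
        exact (hB.sum_gn' hι hL (gen_isClassFunction hχ.gen)).trans (mul_le_mul_of_nonneg_left hχ.nrm (by positivity))
    _ = _ := by push_cast; ring

theorem rs_rat : RatR r (rs r P χ ∘ ι) := by
  intro b y h1 h2 h3 k hk
  have hm : ∀ y, ι y ∈ centralizer (P : Set H) := fun y => hL ▸ ⟨y, rfl⟩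
  obtain ⟨a, ha, h4⟩ := hB.exists_gn hP (by have := two_mul_lt hb; omega) (hm (b * y))
  have h5 := part_mul hP (hm _) (isPPart_map ι hι (isPPart_mul h1 h2 h3)) ha
  have h6 : Commute (a * ι b) (ι y) := Commute.mul_left (hm y a ha) (h1.map ι)
  obtain ⟨m, h7⟩ := h5.choose_spec.2.2.1
  have h8 : ¬ r ∣ orderOf (ι y) := by rwa [orderOf_injective ι hι]
  have h9 : a ^ k * ι (b ^ k * y) = (a * ι b) ^ k * ι y := by rw [Commute.mul_pow (hm b a ha), map_mul, map_pow, mul_assoc]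
  obtain ⟨e, he⟩ := exists_pow_eq_self_of_coprime (x := a * ι b) (n := k) (h7 ▸ hk.pow_right m)
  rw [Function.comp_apply, Function.comp_apply, hB.rs_eq hP hχ hb (hm _) ha h4, hB.rs_eq hP hχ hb (hm _) (pow_mem ha k), h9,
    hχ.rat _ _ h6 ⟨m, h7⟩ h8 k hk, map_mul, mul_assoc]
  rw [h9, gn_iff (isPPart_mul (h6.pow_left k) ⟨m, by rw [Nat.Coprime.orderOf_pow (h7 ▸ (hk.pow_right m).symm), h7]⟩ h8)]
  exact fun c hc => h4 _ h5 (mem_cen.2 (he ▸ (mem_cen.1 hc).pow_right e))

/-- **(2)** -/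
theorem sm_rs : Sm r (2 * n * B) (rs r P χ ∘ ι) := ⟨hB.rs_gen hP hχ hb hι hL, hB.rs_nrm hP hχ hb hι hL, hB.rs_rat hP hχ hb hι hL⟩

/-- **transitivity** -/
theorem rs_rs (hb' : bd n (2 * n * B) < r) {Q : Subgroup L} (hQ : IsPGroup r Q) (hPQ : P ≤ Q.map ι) {g : L}
    (hg : g ∈ centralizer (Q : Set L)) : rs r Q (rs r P χ ∘ ι) g = rs r (Q.map ι) χ (ι g) := by
  have h1 : ι g ∈ centralizer (Q.map ι : Set H) := by
    rintro _ ⟨y, hy, rfl⟩
    rw [← map_mul, hg y hy, map_mul]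
  obtain ⟨_, ⟨a, ha, rfl⟩, h2⟩ := hB.exists_gn (hQ.map ι) (by have := two_mul_lt hb; omega) h1
  rw [hB.rs_eq (hQ.map ι) hχ hb h1 (mem_map_of_mem ι ha) h2, (hB.sub ι hι).rs_eq hQ (hB.sm_rs hP hχ hb hι hL) hb' hg ha,
    Function.comp_apply, map_mul, hB.rs_gn hP hχ hb (h2.mono (centralizer_le hPQ))]
  intro b h3 c hc y hy
  refine hι ?_
  rw [map_mul, map_mul]
  exact h2 _ (map_mul ι a g ▸ isPPart_map ι hι h3) (mem_cen.2 ((mem_cen.1 hc).map ι)) _ (mem_map_of_mem ι hy)

end Big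

end Cfsg.Agent.HZ.Gen
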